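/-
The number of cosets can only be one.
-/
import Mathlib

set_option autoImplicit false

namespace Cfsg.Agent.Classical.UOFour

theorem arith {q N : ℕ} (h5 : 5 ≤ q) (hodd : Odd q) (hN : 0 < N) (hdvd : q ^ 2 * (q - 1) ∣ 2 * (N - 1))
    (hle : (N - 1) * (q ^ 2 - q) ≤ q ^ 5)
    (hord : N ∣ q ^ 6 * ((q ^ 2 - 1) * (q ^ 3 + 1) * (q ^ 4 - 1))) : N = 1 := by
  obtain ⟨k, hk⟩ := hdvd
  by_contra hne
  have hk1 : 1 ≤ k := by
    rcases Nat.eq_zero_or_pos k with h | h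
    · rw [h, mul_zero] at hk; omega
    · exact h
  have hkle : k * (q - 1) ^ 2 ≤ 2 * q ^ 2 := by
    have e : q ^ 2 - q = q * (q - 1) := by rw [Nat.mul_sub, mul_one, sq]
    rw [e] at hle
    refine Nat.le_of_mul_le_mul_left ?_ (show 0 < q ^ 3 from pow_pos (by omega) 3)
    calc q ^ 3 * (k * (q - 1) ^ 2) = q ^ 2 * (q - 1) * k * (q * (q - 1)) := by ring
      _ = 2 * ((N - 1) * (q * (q - 1))) := by rw [← hk]; ring
      _ ≤ 2 * q ^ 5 := Nat.mul_le_mul_left 2 hle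
      _ = q ^ 3 * (2 * q ^ 2) := by ring
  have hX : ∀ M : ℕ, M = N → Nat.Coprime M q → (M : ℤ) ∣ ((q : ℤ) ^ 2 - 1) * ((q : ℤ) ^ 3 + 1) * ((q : ℤ) ^ 4 - 1) := by
    rintro M rfl hco
    have h := (Nat.Coprime.pow_right 6 hco).dvd_of_dvd_mul_left hord
    have h' := Int.natCast_dvd_natCast.mpr h
    push_cast [Nat.cast_sub (Nat.one_le_pow 2 q (by omega)), Nat.cast_sub (Nat.one_le_pow 4 q (by omega))] at h'
    exact h'
  obtain ⟨i, rfl⟩ : ∃ i, N = i + 1 := ⟨N - 1, by omega⟩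
  simp only [Nat.add_sub_cancel] at hk
  have hco : k = 1 ∨ k = 2 → Nat.Coprime (i + 1) q := by
    intro hk12
    refine Nat.Coprime.symm (Nat.coprime_of_dvd fun p hp hpq hpN => ?_)
    have hp2 : p ∣ 2 * i := hk ▸ Dvd.dvd.mul_right (Dvd.dvd.mul_right (dvd_pow hpq two_ne_zero) _) _
    have : p ∣ 2 * (i + 1) := hpN.mul_left 2
    rw [mul_add, mul_one] at this
    have h2 : p ∣ 2 := (Nat.dvd_add_right hp2).mp this
    have : p = 2 := (Nat.prime_dvd_prime_iff_eq hp Nat.prime_two).mp h2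
    subst this
    exact (Nat.not_even_iff_odd.mpr hodd) (even_iff_two_dvd.mpr hpq)
  have hq1 : ((q - 1 : ℕ) : ℤ) = (q : ℤ) - 1 := by omega
  rcases (show k = 1 ∨ k = 2 ∨ 3 ≤ k by omega) with h | h | h
  · subst h
    have hz : (2 : ℤ) * ((i + 1 : ℕ) : ℤ) = (q : ℤ) ^ 3 - (q : ℤ) ^ 2 + 2 := by
      have e := congrArg (fun n : ℕ => (n : ℤ)) hk
      push_cast [hq1] at e ⊢
      linear_combination e
    have hd := mul_dvd_mul_left (2 : ℤ) (hX _ rfl (hco (Or.inl rfl)))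
    rw [hz] at hd
    have h10 : ((q : ℤ) ^ 3 - (q : ℤ) ^ 2 + 2) ∣ 10 * ((q : ℤ) + 1) ^ 2 := by
      have e : 10 * ((q : ℤ) + 1) ^ 2 = 2 * (((q : ℤ) ^ 2 - 1) * ((q : ℤ) ^ 3 + 1) * ((q : ℤ) ^ 4 - 1)) -
          ((q : ℤ) ^ 3 - (q : ℤ) ^ 2 + 2) * (-4 - 10 * q - 8 * (q : ℤ) ^ 2 - 2 * (q : ℤ) ^ 3 + 2 * (q : ℤ) ^ 5 + 2 * (q : ℤ) ^ 6) := by
        ring
      rw [e]
      exact dvd_sub hd (Dvd.intro _ rfl)
    have hle' := Int.le_of_dvd (by positivity) h10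
    have hq : q < 16 := by
      by_contra hcon
      have : (16 : ℤ) ≤ q := by omega
      nlinarith
    have h11 : (q ^ 3 - q ^ 2 + 2) ∣ 10 * (q + 1) ^ 2 := by
      rw [← Int.natCast_dvd_natCast]
      push_cast [Nat.cast_sub (Nat.pow_le_pow_right (by omega : 1 ≤ q) (by norm_num : 2 ≤ 3))]
      exact h10
    obtain ⟨j, hj⟩ := hodd
    interval_cases q <;> omega
  · subst h
    have hz : ((i + 1 : ℕ) : ℤ) = (q : ℤ) ^ 3 - (q : ℤ) ^ 2 + 1 := by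
      have e := congrArg (fun n : ℕ => (n : ℤ)) hk
      push_cast [hq1] at e ⊢
      linarith
    have hd := hX _ rfl (hco (Or.inr rfl))
    rw [hz] at hd
    have h3 : ((q : ℤ) ^ 3 - (q : ℤ) ^ 2 + 1) ∣ (q : ℤ) ^ 2 - 3 * q - 3 := by
      have e : (q : ℤ) ^ 2 - 3 * q - 3 = ((q : ℤ) ^ 3 - (q : ℤ) ^ 2 + 1) *
          (-2 - 3 * q - 2 * (q : ℤ) ^ 2 + (q : ℤ) ^ 5 + (q : ℤ) ^ 6) -
          (((q : ℤ) ^ 2 - 1) * ((q : ℤ) ^ 3 + 1) * ((q : ℤ) ^ 4 - 1)) := by ring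
      rw [e]
      exact dvd_sub (Dvd.intro _ rfl) hd
    have hq5 : (5 : ℤ) ≤ q := by omega
    have hle' := Int.le_of_dvd (by nlinarith) h3
    nlinarith
  · have hq : q = 5 := by
      by_contra hq
      obtain ⟨r, rfl⟩ : ∃ r, q = r + 1 := ⟨q - 1, by omega⟩
      have hr : 5 ≤ r := by omega
      simp only [Nat.add_sub_cancel] at hkle
      nlinarith
    subst hq
    have hk3 : k = 3 := by norm_num at hkle; omega
    subst hk3
    norm_num at hk hord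
    have hi : i = 150 := by omega
    subst hi
    norm_num at hord

end Cfsg.Agent.Classical.UOFour
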