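/-
A real structure in the four-dimensional unitary space: basic facts, unipotent radicals of real points.
-/
import Cfsg.Agent.Lib.Classical.OSimFour.Spread

set_option autoImplicit false
set_option linter.unusedSectionVars false
set_option linter.style.haveILetI false

namespace Cfsg.Agent.Classical.UOFour

open Matrix Cfsg.Geo
open Cfsg.Agent.Classical

variable {ι : Type} [Fintype ι] [DecidableEq ι] {F : Type*} [Field F] {F₀ : Subfield F} [Fintype F₀] {σ : F ≃+* F}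
  {θ : F} {f : (ι → F) → (ι → F) → F} {T : (ι → F₀) → ι → F} {Q : (ι → F₀) → F₀} {M K : Subgroup (GL ι F)}

/-- The polar form. -/
local notation "⟪" x ", " y "⟫" => QuadraticMap.polar Q x y

/-- `g` is the transvection with centre `v` and parameter `c`. -/
def Tr (f : (ι → F) → (ι → F) → F) (g : GL ι F) (v : ι → F) (c : F) : Prop :=
  ∀ x, (g : Matrix ι ι F) *ᵥ x = x + (c * f x v) • v

/-- All transvections with centre `v` lie in the group. -/
def Ctr (σ : F ≃+* F) (f : (ι → F) → (ι → F) → F) (K : Subgroup (GL ι F)) (v : ι → F) : Prop :=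
  f v v = 0 → ∀ c : F, c + σ c = 0 → ∀ g, Tr f g v c → g ∈ K

/-- The setting: `M` is the group of the scaled real elements inside `K`. -/
structure Setup (σ : F ≃+* F) (θ : F) (f : (ι → F) → (ι → F) → F) (T : (ι → F₀) → ι → F) (Q : (ι → F₀) → F₀)
    (M K : Subgroup (GL ι F)) : Prop where
  D : OSimFour.Data Q
  five : 5 ≤ Fintype.card F₀
  hs : IsSemiForm σ f
  herm : ∀ v w, f v w = σ (f w v)
  inv : ∀ x, σ (σ x) = x
  theta : σ θ = -θ
  theta0 : θ ≠ 0
  two : (2 : F) ≠ 0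
  fix : ∀ x : F₀, σ (x : F) = x
  dec : ∀ x : F, ∃ a b : F₀, x = (a : F) + θ * b
  T_add : ∀ u w, T (u + w) = T u + T w
  T_smul : ∀ (c : F₀) u, T (c • u) = (c : F) • T u
  T_dec : ∀ v : ι → F, ∃ u u', v = T u + θ • T u'
  hT : ∀ u w, f (T u) (T w) = (QuadraticMap.polar Q u w : F₀)
  mem_M : ∀ g ∈ K, ∀ l : F, l ≠ 0 → (∀ x, ∃ y, l • ((g : Matrix ι ι F) *ᵥ T x) = T y) → g ∈ M
  of_M : ∀ g ∈ M, ∃ l : F, l ≠ 0 ∧ ∀ x, ∃ y, l • ((g : Matrix ι ι F) *ᵥ T x) = T y
  le : M ≤ K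
  real : ∀ A ∈ quadSimilarityGroup Q ⊓ specialLinear ι F₀,
    (∀ x y, QuadraticMap.polar Q ((A : Matrix ι ι F₀) *ᵥ x) ((A : Matrix ι ι F₀) *ᵥ y) = QuadraticMap.polar Q x y) →
    ∃ k ∈ M, ∀ x, (k : Matrix ι ι F) *ᵥ T x = T ((A : Matrix ι ι F₀) *ᵥ x)
  trace : ∀ k : Matrix ι ι F, (∀ x, ∃ y, k *ᵥ T x = T y) → σ k.trace = k.trace
  iso : ∀ k ∈ K, ∀ x y, f ((k : Matrix ι ι F) *ᵥ x) ((k : Matrix ι ι F) *ᵥ y) = f x y
  trans : ∀ v c, f v v = 0 → c + σ c = 0 → ∃ g, Tr f g v c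

variable (S : Setup σ θ f T Q M K)

include S

theorem f_zero_left (x : ι → F) : f 0 x = 0 := by rw [← zero_smul F (0 : ι → F), S.hs.smul_left, zero_mul]

theorem f_zero_right (x : ι → F) : f x 0 = 0 := by
  rw [← zero_smul F (0 : ι → F), S.hs.smul_right, map_zero, zero_mul]

theorem f_sub_left (a b x : ι → F) : f (a - b) x = f a x - f b x := by
  rw [sub_eq_add_neg, ← neg_one_smul F b, S.hs.add_left, S.hs.smul_left]; ring

theorem symm_zero {a b : ι → F} (h : f a b = 0) : f b a = 0 := by rw [S.herm, h, map_zero]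

theorem T_zero : T 0 = 0 := by rw [← zero_smul F₀ (0 : ι → F₀), S.T_smul, Subfield.coe_zero, zero_smul]

theorem T_neg (u : ι → F₀) : T (-u) = -T u := by
  rw [← neg_one_smul F₀ u, S.T_smul, Subfield.coe_neg, Subfield.coe_one, neg_one_smul]

theorem T_sub (u w : ι → F₀) : T (u - w) = T u - T w := by
  rw [sub_eq_add_neg, S.T_add, T_neg S, sub_eq_add_neg]

theorem coord_unique {a b : F₀} (h : (a : F) + θ * b = 0) : a = 0 ∧ b = 0 := by
  have h' := congrArg σ h
  rw [map_add, map_mul, S.fix, S.fix, S.theta, map_zero] at h'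
  have hb : (b : F) = 0 := by
    have : (2 * θ) * (b : F) = 0 := by linear_combination h - h'
    exact (mul_eq_zero.mp this).resolve_left (mul_ne_zero S.two S.theta0)
  rw [hb, mul_zero, add_zero] at h
  exact ⟨Subtype.ext h, Subtype.ext hb⟩

theorem mem_of_fixed {x : F} (h : σ x = x) : ∃ a : F₀, x = (a : F) := by
  obtain ⟨a, b, hab⟩ := S.dec x
  rw [hab, map_add, map_mul, S.fix, S.fix, S.theta] at h
  have hb : (b : F) = 0 := (mul_eq_zero.mp (show (2 * θ) * (b : F) = 0 by linear_combination -h)).resolve_left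
    (mul_ne_zero S.two S.theta0)
  exact ⟨a, by rw [hab, hb, mul_zero, add_zero]⟩

theorem skew_eq {c : F} (hc : c + σ c = 0) : ∃ r : F₀, c = θ * (r : F) := by
  obtain ⟨a, b, hab⟩ := S.dec c
  rw [hab, map_add, map_mul, S.fix, S.fix, S.theta] at hc
  have ha : (a : F) = 0 := (mul_eq_zero.mp (show (2 : F) * (a : F) = 0 by linear_combination hc)).resolve_left S.two
  exact ⟨b, by rw [hab, ha, zero_add]⟩

theorem exists_nu : ∃ ν : F₀, θ * θ = (ν : F) :=
  mem_of_fixed S (by rw [map_mul, S.theta, neg_mul_neg])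

theorem T_unique {u u' w w' : ι → F₀} (h : T u + θ • T u' = T w + θ • T w') : u = w ∧ u' = w' := by
  have key : ∀ x, ⟪x, u - w⟫ = 0 ∧ ⟪x, u' - w'⟫ = 0 := fun x => by
    have h0 := congrArg (fun v => f v (T x)) h
    simp only [S.hs.add_left, S.hs.smul_left, S.hT] at h0
    rw [OSimFour.sub_right S.D, OSimFour.sub_right S.D, OSimFour.symm S.D x u, OSimFour.symm S.D x w,
      OSimFour.symm S.D x u', OSimFour.symm S.D x w']
    refine coord_unique S ?_
    rw [Subfield.coe_sub, Subfield.coe_sub]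
    linear_combination h0
  exact ⟨sub_eq_zero.mp (OSimFour.eq_zero_of_perp S.D fun x => (key x).1),
    sub_eq_zero.mp (OSimFour.eq_zero_of_perp S.D fun x => (key x).2)⟩

theorem T_injective {u w : ι → F₀} (h : T u = T w) : u = w :=
  (T_unique S (u' := 0) (w' := 0) (by rw [h])).1

theorem conj_iso {k : GL ι F} (hk : k ∈ K) (x v : ι → F) :
    f (((k⁻¹ : GL ι F) : Matrix ι ι F) *ᵥ x) v = f x ((k : Matrix ι ι F) *ᵥ v) := by
  conv_rhs => rw [← gl_mulVec_inv_cancel k x]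
  rw [S.iso k hk]

/-- An Eichler element on all vectors. -/
theorem exists_eich {a w : ι → F₀} (ha : Q a = 0) (haw : ⟪a, w⟫ = 0) :
    ∃ k ∈ M, ∀ y, (k : Matrix ι ι F) *ᵥ y =
      y + f y (T a) • T w - (f y (T w) + (Q w : F) * f y (T a)) • T a := by
  obtain ⟨A, hA, hAv, hAi⟩ := OSimFour.exists_eichler_one S.D ha haw
  obtain ⟨k, hk, hkv⟩ := S.real A hA hAi
  refine ⟨k, hk, fun y => ?_⟩
  obtain ⟨u, u', rfl⟩ := S.T_dec y
  rw [Matrix.mulVec_add, Matrix.mulVec_smul, hkv, hkv, hAv, hAv]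
  simp only [T_sub S, S.T_add, S.T_smul, Subfield.coe_add, Subfield.coe_mul, S.hs.add_left, S.hs.smul_left, S.hT]
  module

theorem exists_alpha : ∃ α : F₀, α ≠ 0 ∧ α ≠ 1 ∧ α ≠ -1 := by
  classical
  by_contra hcon
  have h : (Finset.univ : Finset F₀) ⊆ {0, 1, -1} := fun x _ => by
    simp only [Finset.mem_insert, Finset.mem_singleton]
    by_contra h
    push Not at h
    exact hcon ⟨x, h⟩
  have h1 := Finset.card_le_card h
  have h2 : Finset.card ({0, 1, -1} : Finset F₀) ≤ 3 := Finset.card_le_three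
  rw [Finset.card_univ] at h1
  have := S.five
  omega

section frame

variable {a b m n : ι → F₀} (B : OSimFour.Basis4 Q a b m n)

include B

omit B in
theorem f_T_T {u w : ι → F₀} (h : ⟪u, w⟫ = 0) : f (T u) (T w) = 0 := by rw [S.hT, h]; rfl

theorem aa : f (T a) (T a) = 0 := f_T_T S (OSimFour.self_zero S.D B.qz)

theorem bb : f (T b) (T b) = 0 := f_T_T S (OSimFour.self_zero S.D B.qz')

theorem ab : f (T a) (T b) = 1 := by rw [S.hT, B.zz]; rfl

theorem ba : f (T b) (T a) = 1 := by rw [S.herm, ab S B, map_one]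

/-- The coordinates in a real frame. -/
theorem expand (y : ι → F) : y = f y (T b) • T a + f y (T a) • T b +
    (f y (T m) / (2 * (Q m : F))) • T m + (f y (T n) / (2 * (Q n : F))) • T n := by
  have e : ∀ x : ι → F₀, T x = f (T x) (T b) • T a + f (T x) (T a) • T b +
      (f (T x) (T m) / (2 * (Q m : F))) • T m + (f (T x) (T n) / (2 * (Q n : F))) • T n := fun x => by
    conv_lhs => rw [B.expand x]
    have h2 : ((2 : F₀) : F) = 2 := map_ofNat F₀.subtype 2
    simp only [S.T_add, S.T_smul, S.hT, Subfield.coe_div, Subfield.coe_mul, h2]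
  obtain ⟨u, u', rfl⟩ := S.T_dec y
  conv_lhs => rw [e u, e u']
  simp only [S.hs.add_left, S.hs.smul_left, add_div, mul_div_assoc]
  module

theorem ext_basis {k k' : GL ι F} (h1 : (k : Matrix ι ι F) *ᵥ T a = (k' : Matrix ι ι F) *ᵥ T a)
    (h2 : (k : Matrix ι ι F) *ᵥ T b = (k' : Matrix ι ι F) *ᵥ T b)
    (h3 : (k : Matrix ι ι F) *ᵥ T m = (k' : Matrix ι ι F) *ᵥ T m)
    (h4 : (k : Matrix ι ι F) *ᵥ T n = (k' : Matrix ι ι F) *ᵥ T n) : k = k' :=
  gl_ext_mulVec fun y => by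
    rw [expand S B y]
    simp only [Matrix.mulVec_add, Matrix.mulVec_smul, h1, h2, h3, h4]

omit B in
/-- The elements of the unipotent radical of the stabiliser of `T a`. -/
def Rad (f : (ι → F) → (ι → F) → F) (T : (ι → F₀) → ι → F) (a : ι → F₀) (k : GL ι F) : Prop :=
  (k : Matrix ι ι F) *ᵥ T a = T a ∧ ∀ x, f x (T a) = 0 → ∃ c : F, (k : Matrix ι ι F) *ᵥ x = x + c • T a

theorem Rad.eq {k k' : GL ι F} (hk : k ∈ K)
    (hk' : ∀ x y, f ((k' : Matrix ι ι F) *ᵥ x) ((k' : Matrix ι ι F) *ᵥ y) = f x y) (h : Rad f T a k) (h' : Rad f T a k')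
    (e : (k : Matrix ι ι F) *ᵥ T b = (k' : Matrix ι ι F) *ᵥ T b) : k = k' := by
  have key : ∀ x, f x (T a) = 0 → (k : Matrix ι ι F) *ᵥ x = (k' : Matrix ι ι F) *ᵥ x := fun x hx => by
    obtain ⟨c, hc⟩ := h.2 x hx
    obtain ⟨c', hc'⟩ := h'.2 x hx
    have e1 := S.iso k hk x (T b)
    have e2 := hk' x (T b)
    have e3 := S.iso k hk (T a) (T b)
    rw [h.1, ab S B] at e3
    rw [hc, S.hs.add_left, S.hs.smul_left, e3, mul_one] at e1
    rw [hc', S.hs.add_left, S.hs.smul_left, ← e, e3, mul_one] at e2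
    rw [hc, hc', show c = c' by linear_combination e1 - e2]
  exact ext_basis S B (by rw [h.1, h'.1]) e (key _ (f_T_T S (by rw [OSimFour.symm S.D]; exact B.zm)))
    (key _ (f_T_T S (by rw [OSimFour.symm S.D]; exact B.zn)))

omit B in
theorem Rad.mul {k k' : GL ι F} (h : Rad f T a k) (h' : Rad f T a k') : Rad f T a (k * k') := by
  refine ⟨by rw [gl_mul_mulVec, h'.1, h.1], fun x hx => ?_⟩
  obtain ⟨c', hc'⟩ := h'.2 x hx
  obtain ⟨c, hc⟩ := h.2 x hx
  exact ⟨c + c', by rw [gl_mul_mulVec, hc', Matrix.mulVec_add, Matrix.mulVec_smul, hc, h.1]; module⟩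

omit B in
theorem Rad.inv {k : GL ι F} (h : Rad f T a k) : Rad f T a k⁻¹ := by
  have h1 : ((k⁻¹ : GL ι F) : Matrix ι ι F) *ᵥ T a = T a := by
    conv_lhs => rw [← h.1]
    rw [gl_inv_mulVec_cancel]
  refine ⟨h1, fun x hx => ?_⟩
  obtain ⟨c, hc⟩ := h.2 x hx
  refine ⟨-c, ?_⟩
  conv_lhs => rw [show x = (x + c • T a) - c • T a by abel, ← hc]
  rw [Matrix.mulVec_sub, Matrix.mulVec_smul, gl_inv_mulVec_cancel, h1, neg_smul, sub_eq_add_neg]

omit B in
theorem rad_eich {w : ι → F₀} (ha : Q a = 0) (haw : ⟪a, w⟫ = 0) {k : GL ι F}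
    (hk : ∀ y, (k : Matrix ι ι F) *ᵥ y = y + f y (T a) • T w - (f y (T w) + (Q w : F) * f y (T a)) • T a) :
    Rad f T a k := by
  refine ⟨?_, fun x hx => ⟨-f x (T w), ?_⟩⟩
  · rw [hk, f_T_T S (OSimFour.self_zero S.D ha), f_T_T S haw]; simp
  · rw [hk, hx]; simp [sub_eq_add_neg]

omit B in
theorem rad_tr {g : GL ι F} {c : F} (ha : Q a = 0) (hg : Tr f g (T a) c) : Rad f T a g :=
  ⟨by rw [hg, f_T_T S (OSimFour.self_zero S.D ha)]; simp, fun x hx => ⟨0, by rw [hg, hx]; simp⟩⟩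

/-- Without transvections the radical meets the group in the Eichler elements. -/
theorem radical (hNT : ∀ g ∈ K, ∀ c, c + σ c = 0 → Tr f g (T a) c → c = 0) {k : GL ι F} (hk : k ∈ K)
    (hr : Rad f T a k) : ∃ w, ⟪a, w⟫ = 0 ∧ ⟪b, w⟫ = 0 ∧ ∀ y, (k : Matrix ι ι F) *ᵥ y =
      y + f y (T a) • T w - (f y (T w) + (Q w : F) * f y (T a)) • T a := by
  have h2Q : ∀ {v : ι → F₀}, Q v ≠ 0 → (2 : F) * (Q v : F) ≠ 0 := fun hv =>
    mul_ne_zero S.two fun e => hv (Subtype.ext e)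
  obtain ⟨p1, p2, hp⟩ := S.dec (f ((k : Matrix ι ι F) *ᵥ T b) (T m) / (2 * (Q m : F)))
  obtain ⟨r1, r2, hr'⟩ := S.dec (f ((k : Matrix ι ι F) *ᵥ T b) (T n) / (2 * (Q n : F)))
  obtain ⟨w, hw⟩ : ∃ w, w = p1 • m + r1 • n := ⟨_, rfl⟩
  have haw : ⟪a, w⟫ = 0 := by
    rw [hw, OSimFour.add_right S.D, OSimFour.smul_right S.D, OSimFour.smul_right S.D, B.zm, B.zn]; ring
  have hbw : ⟪b, w⟫ = 0 := by
    rw [hw, OSimFour.add_right S.D, OSimFour.smul_right S.D, OSimFour.smul_right S.D, B.z'm, B.z'n]; ring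
  obtain ⟨E, hE, hEy⟩ := exists_eich S B.qz haw
  obtain ⟨s, hs⟩ : ∃ s, s = p2 • m + r2 • n := ⟨_, rfl⟩
  have has : ⟪a, s⟫ = 0 := by
    rw [hs, OSimFour.add_right S.D, OSimFour.smul_right S.D, OSimFour.smul_right S.D, B.zm, B.zn]; ring
  have hka : f ((k : Matrix ι ι F) *ᵥ T b) (T a) = 1 := by
    conv_lhs => rw [← hr.1]
    rw [S.iso k hk, ba S B]
  obtain ⟨e, he⟩ : ∃ e : F, (k : Matrix ι ι F) *ᵥ T b = T b + T w + θ • T s + e • T a := by
    refine ⟨f ((k : Matrix ι ι F) *ᵥ T b) (T b), ?_⟩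
    conv_lhs => rw [expand S B ((k : Matrix ι ι F) *ᵥ T b), hka, hp, hr']
    rw [hw, hs]
    simp only [S.T_add, S.T_smul]
    module
  have hre : Rad f T a E := rad_eich S B.qz haw hEy
  obtain ⟨k1, hk1⟩ : ∃ k1, k1 = E⁻¹ * k := ⟨_, rfl⟩
  have hk1K : k1 ∈ K := hk1 ▸ mul_mem (inv_mem (S.le hE)) hk
  have hr1 : Rad f T a k1 := hk1 ▸ Rad.mul S (Rad.inv S hre) hr
  obtain ⟨e', he'⟩ : ∃ e' : F, (k1 : Matrix ι ι F) *ᵥ T b = T b + θ • T s + e' • T a := by
    refine ⟨e + (Q w : F) + θ * f (T s) (T w), gl_mulVec_injective E ?_⟩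
    dsimp only
    rw [hk1, ← gl_mul_mulVec, ← mul_assoc, mul_inv_cancel, one_mul, he, hEy]
    simp only [S.hs.add_left, S.hs.smul_left, ba S B, aa S B, f_T_T S haw, f_T_T S hbw,
      f_T_T S (show ⟪s, a⟫ = 0 by rw [OSimFour.symm S.D]; exact has)]
    module
  have hsp : ∀ v, ⟪a, v⟫ = 0 → ⟪b, v⟫ = 0 → ⟪v, s⟫ = 0 := by
    intro v hav hbv
    obtain ⟨W, hW, hWy⟩ := exists_eich S B.qz hav
    have hrW : Rad f T a W := rad_eich S B.qz hav hWy
    obtain ⟨δ, hδ⟩ : ∃ δ : F, δ = 2 * (θ * ((⟪v, s⟫ : F₀) : F)) := ⟨_, rfl⟩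
    have hδs : δ + σ δ = 0 := by rw [hδ, map_mul, map_mul, S.theta, S.fix, map_ofNat]; ring
    obtain ⟨t, ht⟩ := S.trans (T a) δ (aa S B) hδs
    have hk1v : (k1 : Matrix ι ι F) *ᵥ T v = T v + (θ * ((⟪v, s⟫ : F₀) : F)) • T a := by
      have hva : f (T v) (T a) = 0 := f_T_T S (by rw [OSimFour.symm S.D]; exact hav)
      obtain ⟨c, hc⟩ := hr1.2 (T v) hva
      have e1 := S.iso k1 hk1K (T v) (T b)
      rw [hc, he', f_T_T S (show ⟪v, b⟫ = 0 by rw [OSimFour.symm S.D]; exact hbv)] at e1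
      simp only [S.hs.add_left, S.hs.add_right, S.hs.smul_left, S.hs.smul_right, hva, aa S B, ab S B,
        f_T_T S has, f_T_T S (show ⟪v, b⟫ = 0 by rw [OSimFour.symm S.D]; exact hbv), S.hT v s, S.theta] at e1
      rw [hc, show c = θ * ((⟪v, s⟫ : F₀) : F) by linear_combination e1]
    have e : k1 * W = W * k1 * t := by
      have hma : f (T m) (T a) = 0 := f_T_T S (by rw [OSimFour.symm S.D]; exact B.zm)
      have hna : f (T n) (T a) = 0 := f_T_T S (by rw [OSimFour.symm S.D]; exact B.zn)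
      have comm : ∀ x, f x (T a) = 0 → (k1 : Matrix ι ι F) *ᵥ ((W : Matrix ι ι F) *ᵥ x) =
          (W : Matrix ι ι F) *ᵥ ((k1 : Matrix ι ι F) *ᵥ x) := fun x hx => by
        obtain ⟨c, hc⟩ := hr1.2 x hx
        obtain ⟨d, hd⟩ := hrW.2 x hx
        rw [hd, hc, Matrix.mulVec_add, Matrix.mulVec_smul, hr1.1, Matrix.mulVec_add, Matrix.mulVec_smul, hrW.1, hc, hd]
        module
      refine ext_basis S B ?_ ?_ ?_ ?_
      · simp only [gl_mul_mulVec]
        rw [ht (T a), aa S B, mul_zero, zero_smul, add_zero, comm _ (aa S B)]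
      · simp only [gl_mul_mulVec]
        rw [ht (T b), ba S B, mul_one, Matrix.mulVec_add, Matrix.mulVec_add, Matrix.mulVec_smul, Matrix.mulVec_smul,
          hr1.1, hrW.1, he', hWy (T b), ba S B, f_T_T S hbv, Matrix.mulVec_sub, Matrix.mulVec_add, Matrix.mulVec_smul,
          Matrix.mulVec_smul, he', hk1v, hr1.1, hWy]
        simp only [S.hs.add_left, S.hs.smul_left, ba S B, aa S B, f_T_T S hav, f_T_T S hbv,
          f_T_T S (show ⟪s, a⟫ = 0 by rw [OSimFour.symm S.D]; exact has), S.hT s v, OSimFour.symm S.D s v, hδ]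
        module
      · simp only [gl_mul_mulVec]
        rw [ht (T m), hma, mul_zero, zero_smul, add_zero, comm _ hma]
      · simp only [gl_mul_mulVec]
        rw [ht (T n), hna, mul_zero, zero_smul, add_zero, comm _ hna]
    have htK : t ∈ K := by
      rw [show t = (W * k1)⁻¹ * (k1 * W) by rw [e]; group]
      exact mul_mem (inv_mem (mul_mem (S.le hW) hk1K)) (mul_mem hk1K (S.le hW))
    have h := hNT t htK δ hδs ht
    rw [hδ, ← mul_assoc] at h
    exact Subtype.ext ((mul_eq_zero.mp h).resolve_left (mul_ne_zero S.two S.theta0))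
  have h1 := hsp m B.zm B.z'm
  have h2 := hsp n B.zn B.z'n
  rw [hs, OSimFour.add_right S.D, OSimFour.smul_right S.D, OSimFour.smul_right S.D] at h1 h2
  rw [OSimFour.self_eq S.D, B.mn, mul_zero, add_zero] at h1
  rw [OSimFour.self_eq S.D, OSimFour.symm S.D n m, B.mn, mul_zero, zero_add] at h2
  have hs0 : s = 0 := by
    rw [hs, (mul_eq_zero.mp h1).resolve_right (mul_ne_zero S.D.h2 B.qm),
      (mul_eq_zero.mp h2).resolve_right (mul_ne_zero S.D.h2 B.qn)]
    simp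
  rw [hs0, T_zero S, smul_zero, add_zero] at he'
  have he's : e' + σ e' = 0 := by
    have := S.iso k1 hk1K (T b) (T b)
    rw [he'] at this
    simp only [S.hs.add_left, S.hs.add_right, S.hs.smul_left, S.hs.smul_right, aa S B, bb S B, ab S B, ba S B] at this
    linear_combination this
  obtain ⟨t, ht⟩ := S.trans (T a) e' (aa S B) he's
  have hk1t : k1 = t := by
    refine Rad.eq S B hk1K (fun x y => ?_) hr1 (rad_tr S B.qz ht) (by rw [he', ht, ba S B, mul_one])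
    rw [ht, ht]
    simp only [S.hs.add_left, S.hs.add_right, S.hs.smul_left, S.hs.smul_right, map_mul, aa S B, mul_zero, add_zero,
      ← S.herm (T a) y]
    linear_combination (f x (T a) * f (T a) y) * he's
  have he0 : e' = 0 := hNT k1 hk1K e' he's (hk1t ▸ ht)
  refine ⟨w, haw, hbw, fun y => ?_⟩
  rw [show k = E * k1 by rw [hk1]; group, gl_mul_mulVec, hk1t, ht, he0, zero_mul, zero_smul, add_zero, hEy]

end frame

end Cfsg.Agent.Classical.UOFour
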