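/-
Stabilisers of real points, and fixed cosets of their elements.
-/
import Cfsg.Agent.Lib.Classical.UOFour.Setup

set_option autoImplicit false
set_option linter.unusedSectionVars false
set_option linter.style.haveILetI false

namespace Cfsg.Agent.Classical.UOFour

open Matrix Cfsg.Geo
open Cfsg.Agent.Classical

variable {ι : Type} [Fintype ι] [DecidableEq ι] {F : Type*} [Field F] {F₀ : Subfield F} [Fintype F₀] {σ : F ≃+* F}
  {θ : F} {f : (ι → F) → (ι → F) → F} {T : (ι → F₀) → ι → F} {Q : (ι → F₀) → F₀} {M K : Subgroup (GL ι F)}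

/-- The polar form. -/
local notation "⟪" x ", " y "⟫" => QuadraticMap.polar Q x y

/-- No transvection of the group has a real isotropic centre. -/
def NoTr (σ : F ≃+* F) (f : (ι → F) → (ι → F) → F) (T : (ι → F₀) → ι → F) (Q : (ι → F₀) → F₀)
    (K : Subgroup (GL ι F)) : Prop :=
  ∀ a, Q a = 0 → a ≠ 0 → ∀ g ∈ K, ∀ c, c + σ c = 0 → Tr f g (T a) c → c = 0

/-- The real elements fixing the point of `T a` that act trivially on the middle layer. -/
def InB (f : (ι → F) → (ι → F) → F) (T : (ι → F₀) → ι → F) (M : Subgroup (GL ι F)) (a : ι → F₀) (α : F₀)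
    (h : GL ι F) : Prop :=
  h ∈ M ∧ (h : Matrix ι ι F) *ᵥ T a = (α : F) • T a ∧
    ∀ x, f x (T a) = 0 → ∃ c : F, (h : Matrix ι ι F) *ᵥ x = x + c • T a

variable (S : Setup σ θ f T Q M K)

include S

theorem exists_real_move {z w : ι → F₀} (hz : Q z = 0) (hz0 : z ≠ 0) (hw : Q w = 0) (hw0 : w ≠ 0) :
    ∃ k ∈ M, (k : Matrix ι ι F) *ᵥ T z = T w := by
  obtain ⟨A, hA, hAi, hAz⟩ := OSimFour.exists_move S.D hz hz0 hw hw0
  obtain ⟨k, hk, hkv⟩ := S.real A hA hAi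
  exact ⟨k, hk, by rw [hkv, hAz]⟩

theorem exists_tor {a b m n : ι → F₀} (B : OSimFour.Basis4 Q a b m n) {α : F₀} (hα : α ≠ 0) :
    ∃ t, InB f T M a α t ∧ (t : Matrix ι ι F) *ᵥ T b = ((α⁻¹ : F₀) : F) • T b ∧
      (t : Matrix ι ι F) *ᵥ T m = T m ∧ (t : Matrix ι ι F) *ᵥ T n = T n := by
  obtain ⟨A, hA, hAi, hAa, hAf⟩ := OSimFour.exists_torus S.D B hα
  obtain ⟨k, hk, hkv⟩ := S.real A hA hAi
  have hm := hAf m B.zm B.z'm
  have hn := hAf n B.zn B.z'n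
  obtain ⟨y, hy⟩ : ∃ y, y = (A : Matrix ι ι F₀) *ᵥ b := ⟨_, rfl⟩
  have e1 : ⟪y, m⟫ = 0 := by rw [hy, show m = (A : Matrix ι ι F₀) *ᵥ m from hm.symm, hAi]; exact B.z'm
  have e2 : ⟪y, n⟫ = 0 := by rw [hy, show n = (A : Matrix ι ι F₀) *ᵥ n from hn.symm, hAi]; exact B.z'n
  have e3 : ⟪y, a⟫ = α⁻¹ := by
    rw [show a = α⁻¹ • (A : Matrix ι ι F₀) *ᵥ a by rw [hAa, smul_smul, inv_mul_cancel₀ hα, one_smul], hy,
      OSimFour.smul_right S.D, hAi, OSimFour.symm S.D, B.zz, mul_one]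
  have e5 : ⟪y, b⟫ = 0 := by
    have h0 : ⟪y, y⟫ = 0 := by rw [hy, hAi, OSimFour.self_zero S.D B.qz']
    nth_rewrite 2 [B.expand y] at h0
    simp only [OSimFour.add_right S.D, OSimFour.smul_right S.D, e1, e2, e3, zero_div, mul_zero, add_zero] at h0
    have h2 : (2 * α⁻¹) * ⟪y, b⟫ = 0 := by linear_combination h0
    exact (mul_eq_zero.mp h2).resolve_left (mul_ne_zero S.D.h2 (inv_ne_zero hα))
  have hb : y = α⁻¹ • b := by
    rw [B.expand y, e1, e2, e3, e5]; simp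
  refine ⟨k, ⟨hk, by rw [hkv, hAa, S.T_smul], fun x hx => ⟨((α : F) - 1) * f x (T b), ?_⟩⟩,
    by rw [hkv, ← hy, hb, S.T_smul], by rw [hkv, hm], by rw [hkv, hn]⟩
  conv_lhs => rw [expand S B x, hx]
  conv_rhs => lhs; rw [expand S B x, hx]
  simp only [Matrix.mulVec_add, Matrix.mulVec_smul, hkv, hAa, hm, hn, S.T_smul]
  module

theorem InB.mul {a : ι → F₀} {α β : F₀} {g h : GL ι F} (hg : InB f T M a α g) (hh : InB f T M a β h) :
    InB f T M a (α * β) (g * h) := by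
  refine ⟨mul_mem hg.1 hh.1, by rw [gl_mul_mulVec, hh.2.1, Matrix.mulVec_smul, hg.2.1, smul_smul, Subfield.coe_mul,
    mul_comm], fun x hx => ?_⟩
  obtain ⟨c', hc'⟩ := hh.2.2 x hx
  obtain ⟨c, hc⟩ := hg.2.2 x hx
  exact ⟨c + c' * α, by rw [gl_mul_mulVec, hc', Matrix.mulVec_add, Matrix.mulVec_smul, hc, hg.2.1]; module⟩

theorem InB.inv {a : ι → F₀} (ha0 : a ≠ 0) {α : F₀} {g : GL ι F} (hg : InB f T M a α g) :
    InB f T M a α⁻¹ g⁻¹ := by
  have hα : (α : F) ≠ 0 := fun e => ha0 (T_injective S (by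
    rw [T_zero S]
    refine gl_mulVec_injective g ?_
    dsimp only
    rw [hg.2.1, e, zero_smul, Matrix.mulVec_zero]))
  have h1 : ((g⁻¹ : GL ι F) : Matrix ι ι F) *ᵥ T a = ((α⁻¹ : F₀) : F) • T a := gl_mulVec_injective g (by
    dsimp only
    rw [gl_mulVec_inv_cancel, Matrix.mulVec_smul, hg.2.1, smul_smul, Subfield.coe_inv, inv_mul_cancel₀ hα, one_smul])
  refine ⟨inv_mem hg.1, h1, fun x hx => ?_⟩
  obtain ⟨c, hc⟩ := hg.2.2 x hx
  refine ⟨-c * ((α⁻¹ : F₀) : F), ?_⟩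
  conv_lhs => rw [show x = (x + c • T a) - c • T a by abel, ← hc]
  rw [Matrix.mulVec_sub, Matrix.mulVec_smul, gl_inv_mulVec_cancel, h1]
  module

variable (hNT : NoTr σ f T Q K)

include hNT

theorem noTr_at {a b m n : ι → F₀} (B : OSimFour.Basis4 Q a b m n) :
    ∀ g ∈ K, ∀ c, c + σ c = 0 → Tr f g (T a) c → c = 0 :=
  hNT a B.qz (OSimFour.Basis4.ne S.D B).1

/-- The stabiliser of a real point in the group consists of scaled real elements. -/
theorem stab {a : ι → F₀} (ha : Q a = 0) (ha0 : a ≠ 0) {g : GL ι F} (hg : g ∈ K) {l : F}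
    (hga : (g : Matrix ι ι F) *ᵥ T a = l • T a) : g ∈ M := by
  obtain ⟨b, m, n, B⟩ := OSimFour.exists_basis S.D ha ha0
  have hTa0 : T a ≠ 0 := fun e => ha0 (T_injective S (by rw [e, T_zero S]))
  have hl : l ≠ 0 := fun e => hTa0 (gl_mulVec_injective g (by dsimp only; rw [hga, e, zero_smul, Matrix.mulVec_zero]))
  have hσl : σ l ≠ 0 := (map_ne_zero σ).mpr hl
  have hma : f (T m) (T a) = 0 := f_T_T S (by rw [OSimFour.symm S.D]; exact B.zm)
  have hmb : f (T m) (T b) = 0 := f_T_T S (by rw [OSimFour.symm S.D]; exact B.z'm)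
  have hna : f (T n) (T a) = 0 := f_T_T S (by rw [OSimFour.symm S.D]; exact B.zn)
  have hnb : f (T n) (T b) = 0 := f_T_T S (by rw [OSimFour.symm S.D]; exact B.z'n)
  -- the scaled image of the middle layer is real
  have hmid : ∀ v, ⟪a, v⟫ = 0 → ⟪b, v⟫ = 0 → ∃ (w : ι → F₀) (c : F), ⟪a, w⟫ = 0 ∧ ⟪b, w⟫ = 0 ∧
      σ l • ((g : Matrix ι ι F) *ᵥ T v) = T w + c • T a := by
    intro v hav hbv
    obtain ⟨E, hE, hEy⟩ := exists_eich S ha hav
    have hkK : g * E * g⁻¹ ∈ K := mul_mem (mul_mem hg (S.le hE)) (inv_mem hg)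
    have hrE := rad_eich S ha hav hEy
    have hga' : ((g⁻¹ : GL ι F) : Matrix ι ι F) *ᵥ T a = l⁻¹ • T a := gl_mulVec_injective g (by
      dsimp only
      rw [gl_mulVec_inv_cancel, Matrix.mulVec_smul, hga, smul_smul, inv_mul_cancel₀ hl, one_smul])
    have hrk : Rad f T a (g * E * g⁻¹) := by
      refine ⟨by rw [gl_mul_mulVec, gl_mul_mulVec, hga', Matrix.mulVec_smul, hrE.1, Matrix.mulVec_smul, hga, smul_smul,
        inv_mul_cancel₀ hl, one_smul], fun x hx => ?_⟩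
      obtain ⟨c, hc⟩ := hrE.2 (((g⁻¹ : GL ι F) : Matrix ι ι F) *ᵥ x) (by
        rw [conj_iso S hg, hga, S.hs.smul_right, hx, mul_zero])
      exact ⟨c * l, by rw [gl_mul_mulVec, gl_mul_mulVec, hc, Matrix.mulVec_add, gl_mulVec_inv_cancel,
        Matrix.mulVec_smul, hga, smul_smul]⟩
    obtain ⟨w, haw, hbw, hw⟩ := radical S B (noTr_at S hNT B) hkK hrk
    have h := hw ((g : Matrix ι ι F) *ᵥ T b)
    rw [gl_mul_mulVec, gl_mul_mulVec, gl_inv_mulVec_cancel, hEy, ba S B, f_T_T S hbv] at h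
    have hgb : f ((g : Matrix ι ι F) *ᵥ T b) (T a) = (σ l)⁻¹ := by
      have e := S.iso g hg (T b) (T a)
      rw [hga, S.hs.smul_right, ba S B] at e
      exact eq_inv_of_mul_eq_one_right e
    rw [hgb, Matrix.mulVec_sub, Matrix.mulVec_add, Matrix.mulVec_smul, Matrix.mulVec_smul, hga, one_smul, zero_add,
      mul_one, smul_smul, add_sub_assoc, add_sub_assoc] at h
    refine ⟨w, σ l * ((Q v : F) * l) -
      σ l * (f ((g : Matrix ι ι F) *ᵥ T b) (T w) + (Q w : F) * (σ l)⁻¹), haw, hbw, ?_⟩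
    have h' := congrArg (fun z => σ l • z) (add_left_cancel h)
    simp only [smul_sub, smul_smul, mul_inv_cancel₀ hσl, one_smul] at h'
    linear_combination (norm := module) h'
  -- make the image of `T b` free of a real middle part
  obtain ⟨p1, p2, hp⟩ := S.dec (σ l * f ((g : Matrix ι ι F) *ᵥ T b) (T m) / (2 * (Q m : F)))
  obtain ⟨r1, r2, hr⟩ := S.dec (σ l * f ((g : Matrix ι ι F) *ᵥ T b) (T n) / (2 * (Q n : F)))
  obtain ⟨v1, hv1⟩ : ∃ v, v = p1 • m + r1 • n := ⟨_, rfl⟩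
  have hav1 : ⟪a, v1⟫ = 0 := by
    rw [hv1, OSimFour.add_right S.D, OSimFour.smul_right S.D, OSimFour.smul_right S.D, B.zm, B.zn]; ring
  have hbv1 : ⟪b, v1⟫ = 0 := by
    rw [hv1, OSimFour.add_right S.D, OSimFour.smul_right S.D, OSimFour.smul_right S.D, B.z'm, B.z'n]; ring
  obtain ⟨s, hs⟩ : ∃ s, s = p2 • m + r2 • n := ⟨_, rfl⟩
  have has : ⟪a, s⟫ = 0 := by
    rw [hs, OSimFour.add_right S.D, OSimFour.smul_right S.D, OSimFour.smul_right S.D, B.zm, B.zn]; ring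
  have hbs : ⟪b, s⟫ = 0 := by
    rw [hs, OSimFour.add_right S.D, OSimFour.smul_right S.D, OSimFour.smul_right S.D, B.z'm, B.z'n]; ring
  obtain ⟨E1, hE1, hE1y⟩ := exists_eich S ha hav1
  have hre1 := rad_eich S ha hav1 hE1y
  obtain ⟨g1, hg1⟩ : ∃ g1, g1 = E1⁻¹ * g := ⟨_, rfl⟩
  have hg1K : g1 ∈ K := hg1 ▸ mul_mem (inv_mem (S.le hE1)) hg
  have hg1a : (g1 : Matrix ι ι F) *ᵥ T a = l • T a := gl_mulVec_injective E1 (by
    dsimp only
    rw [hg1, ← gl_mul_mulVec, ← mul_assoc, mul_inv_cancel, one_mul, hga, Matrix.mulVec_smul, hre1.1])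
  have hmid1 : ∀ v, ⟪a, v⟫ = 0 → ⟪b, v⟫ = 0 → ∃ (w : ι → F₀) (c : F), ⟪a, w⟫ = 0 ∧ ⟪b, w⟫ = 0 ∧
      σ l • ((g1 : Matrix ι ι F) *ᵥ T v) = T w + c • T a := by
    intro v hav hbv
    obtain ⟨w, c, haw, hbw, e⟩ := hmid v hav hbv
    obtain ⟨d, hd⟩ := (Rad.inv S hre1).2 (T w) (f_T_T S (by rw [OSimFour.symm S.D]; exact haw))
    refine ⟨w, c + d, haw, hbw, ?_⟩
    rw [hg1, gl_mul_mulVec, ← Matrix.mulVec_smul, e, Matrix.mulVec_add, Matrix.mulVec_smul, hd, (Rad.inv S hre1).1]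
    module
  obtain ⟨e, he⟩ : ∃ e : F, σ l • ((g1 : Matrix ι ι F) *ᵥ T b) = T b + θ • T s + e • T a := by
    refine ⟨σ l * f ((g : Matrix ι ι F) *ᵥ T b) (T b) + (Q v1 : F) + θ * f (T s) (T v1), ?_⟩
    refine gl_mulVec_injective E1 ?_
    dsimp only
    rw [Matrix.mulVec_smul, hg1, ← gl_mul_mulVec, ← mul_assoc, mul_inv_cancel, one_mul]
    have hgb : σ l * f ((g : Matrix ι ι F) *ᵥ T b) (T a) = 1 := by
      have e := S.iso g hg (T b) (T a)
      rwa [hga, S.hs.smul_right, ba S B] at e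
    rw [Matrix.mulVec_add, Matrix.mulVec_add, Matrix.mulVec_smul, Matrix.mulVec_smul, hre1.1, hE1y, hE1y]
    conv_lhs => rw [expand S B ((g : Matrix ι ι F) *ᵥ T b)]
    simp only [smul_add, smul_smul, hgb, ba S B, f_T_T S hbv1, f_T_T S (show ⟪s, a⟫ = 0 by
      rw [OSimFour.symm S.D]; exact has), ← mul_div_assoc, hp, hr]
    rw [hv1, hs]
    simp only [S.T_add, S.T_smul]
    module
  -- commute with a torus
  obtain ⟨α, hα0, hα1, hα2⟩ := exists_alpha S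
  obtain ⟨t, ⟨ht, hta, htx⟩, htb, htm, htn⟩ := exists_tor S B hα0
  obtain ⟨k, hk⟩ : ∃ k, k = g1 * t * g1⁻¹ * t⁻¹ := ⟨_, rfl⟩
  have hkK : k ∈ K := hk ▸ mul_mem (mul_mem (mul_mem hg1K (S.le ht)) (inv_mem hg1K)) (inv_mem (S.le ht))
  have hαF : (α : F) ≠ 0 := fun h => hα0 (Subtype.ext h)
  have hrk : Rad f T a k := by
    have hta' : ((t⁻¹ : GL ι F) : Matrix ι ι F) *ᵥ T a = (α : F)⁻¹ • T a := gl_mulVec_injective t (by
      dsimp only
      rw [gl_mulVec_inv_cancel, Matrix.mulVec_smul, hta, smul_smul, inv_mul_cancel₀ hαF, one_smul])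
    have hga' : ((g1⁻¹ : GL ι F) : Matrix ι ι F) *ᵥ T a = l⁻¹ • T a := gl_mulVec_injective g1 (by
      dsimp only
      rw [gl_mulVec_inv_cancel, Matrix.mulVec_smul, hg1a, smul_smul, inv_mul_cancel₀ hl, one_smul])
    refine ⟨?_, fun x hx => ?_⟩
    · rw [hk]
      simp only [gl_mul_mulVec, hta', Matrix.mulVec_smul, hga', hta, hg1a, smul_smul]
      convert one_smul F (T a) using 2
      field_simp
    · obtain ⟨z, hz⟩ : ∃ z, z = ((t⁻¹ : GL ι F) : Matrix ι ι F) *ᵥ x := ⟨_, rfl⟩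
      obtain ⟨c1, hc1⟩ := (InB.inv S ha0 (⟨ht, hta, htx⟩ : InB f T M a α t)).2.2 x hx
      have hz' : z = x + c1 • T a := hz.trans hc1
      have hza : f z (T a) = 0 := by rw [hz', S.hs.add_left, S.hs.smul_left, hx, aa S B, mul_zero, add_zero]
      obtain ⟨c2, hc2⟩ := htx (((g1⁻¹ : GL ι F) : Matrix ι ι F) *ᵥ z) (by
        rw [conj_iso S hg1K, hg1a, S.hs.smul_right, hza, mul_zero])
      refine ⟨c1 + c2 * l, ?_⟩
      rw [hk, gl_mul_mulVec, gl_mul_mulVec, gl_mul_mulVec, ← hz, hc2, Matrix.mulVec_add, gl_mulVec_inv_cancel, hz',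
        Matrix.mulVec_smul, hg1a]
      module
  obtain ⟨w, haw, hbw, hw⟩ := radical S B (noTr_at S hNT B) hkK hrk
  have hts : ∀ v, ⟪a, v⟫ = 0 → ⟪b, v⟫ = 0 → (t : Matrix ι ι F) *ᵥ T v = T v := fun v hav hbv => by
    conv_lhs => rw [expand S B (T v), f_T_T S (show ⟪v, a⟫ = 0 by rw [OSimFour.symm S.D]; exact hav),
      f_T_T S (show ⟪v, b⟫ = 0 by rw [OSimFour.symm S.D]; exact hbv)]
    conv_rhs => rw [expand S B (T v), f_T_T S (show ⟪v, a⟫ = 0 by rw [OSimFour.symm S.D]; exact hav),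
      f_T_T S (show ⟪v, b⟫ = 0 by rw [OSimFour.symm S.D]; exact hbv)]
    simp only [Matrix.mulVec_add, Matrix.mulVec_smul, htm, htn, zero_smul, Matrix.mulVec_zero]
  obtain ⟨z, hz⟩ : ∃ z, z = ((α⁻¹ : F₀) : F) • T b + θ • T s + (e * α) • T a := ⟨_, rfl⟩
  have hz2 : σ l • ((t : Matrix ι ι F) *ᵥ ((g1 : Matrix ι ι F) *ᵥ T b)) = z := by
    rw [← Matrix.mulVec_smul, he, Matrix.mulVec_add, Matrix.mulVec_add, Matrix.mulVec_smul, Matrix.mulVec_smul, htb, hta,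
      hts s has hbs, smul_smul, hz]
  have hkz : (k : Matrix ι ι F) *ᵥ z = ((α⁻¹ : F₀) : F) • (T b + θ • T s + e • T a) := by
    rw [← hz2, Matrix.mulVec_smul, hk, gl_mul_mulVec, gl_inv_mulVec_cancel, gl_mul_mulVec, gl_mul_mulVec,
      gl_inv_mulVec_cancel, htb, Matrix.mulVec_smul, smul_comm, he]
  have hza : f z (T a) = ((α⁻¹ : F₀) : F) := by
    rw [hz, S.hs.add_left, S.hs.add_left, S.hs.smul_left, S.hs.smul_left, S.hs.smul_left, ba S B, aa S B,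
      f_T_T S (show ⟪s, a⟫ = 0 by rw [OSimFour.symm S.D]; exact has)]; ring
  rw [hw, hza, hz] at hkz
  obtain ⟨Z, hZ⟩ : ∃ Z : F, Z = f (((α⁻¹ : F₀) : F) • T b + θ • T s + (e * α) • T a) (T w) + (Q w : F) * ((α⁻¹ : F₀) : F) :=
    ⟨_, rfl⟩
  rw [← hZ] at hkz
  obtain ⟨u, hu⟩ : ∃ u : F₀, u = α⁻¹ - 1 := ⟨_, rfl⟩
  have hu0 : u ≠ 0 := hu ▸ sub_ne_zero.mpr fun h => hα1 (inv_eq_one.mp h)
  have huF : (u : F) = ((α⁻¹ : F₀) : F) - 1 := by rw [hu, Subfield.coe_sub, Subfield.coe_one]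
  have key : T (α⁻¹ • w) + θ • T (-u • s) = ((((α⁻¹ : F₀) : F) * e) - e * α + Z) • T a := by
    rw [S.T_smul, S.T_smul, Subfield.coe_neg, huF]
    linear_combination (norm := module) hkz
  have hsw : s = 0 ∧ w = 0 := by
    have hkey : ∀ v, ⟪a, v⟫ = 0 → ⟪w, v⟫ = 0 ∧ ⟪s, v⟫ = 0 := fun v hav => by
      have h := congrArg (fun y => f y (T v)) key
      simp only [S.hs.add_left, S.hs.smul_left, f_T_T S hav, mul_zero, S.hT, OSimFour.smul_left S.D] at h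
      obtain ⟨h1, h2⟩ := coord_unique S h
      exact ⟨(mul_eq_zero.mp h1).resolve_left (inv_ne_zero hα0), (mul_eq_zero.mp h2).resolve_left (neg_ne_zero.mpr hu0)⟩
    have hm := hkey m B.zm
    have hn := hkey n B.zn
    constructor
    · rw [B.expand s, OSimFour.symm S.D s b, hbs, OSimFour.symm S.D s a, has, hm.2, hn.2]; simp
    · rw [B.expand w, OSimFour.symm S.D w b, hbw, OSimFour.symm S.D w a, haw, hm.1, hn.1]; simp
  have he0 : e = 0 := by
    have hTa : T a ≠ 0 := hTa0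
    rw [hsw.1, hsw.2, smul_zero, smul_zero, T_zero S, smul_zero, add_zero] at key
    rw [hsw.2, T_zero S, f_zero_right S, OSimFour.quad_zero' S.D, Subfield.coe_zero, zero_mul, add_zero] at hZ
    have h := (smul_eq_zero.mp key.symm).resolve_right hTa
    rw [hZ, add_zero, mul_comm, ← mul_sub] at h
    refine (mul_eq_zero.mp h).resolve_right fun h' => ?_
    have h2 : α⁻¹ = α := Subtype.ext (sub_eq_zero.mp h')
    have h3 : (α - 1) * (α + 1) = 0 := by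
      have := mul_inv_cancel₀ hα0
      rw [h2] at this
      linear_combination this
    rcases mul_eq_zero.mp h3 with h4 | h4
    · exact hα1 (sub_eq_zero.mp h4)
    · exact hα2 (eq_neg_of_add_eq_zero_left h4)
  rw [hsw.1, he0, T_zero S, smul_zero, add_zero, zero_smul, add_zero] at he
  have hE : g1 ∈ M := by
    refine S.mem_M g1 hg1K (σ l) hσl fun x => ?_
    obtain ⟨L, hL⟩ := mem_of_fixed S (x := σ l * l) (by rw [map_mul, S.inv, mul_comm])
    have hcol : ∀ v, ⟪a, v⟫ = 0 → ⟪b, v⟫ = 0 → ∃ w, σ l • ((g1 : Matrix ι ι F) *ᵥ T v) = T w := fun v hav hbv => by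
      obtain ⟨w, c, haw, hbw, e⟩ := hmid1 v hav hbv
      have h := S.iso g1 hg1K (T v) (T b)
      rw [f_T_T S (show ⟪v, b⟫ = 0 by rw [OSimFour.symm S.D]; exact hbv)] at h
      have h' : f (σ l • ((g1 : Matrix ι ι F) *ᵥ T v)) (σ l • ((g1 : Matrix ι ι F) *ᵥ T b)) = 0 := by
        rw [S.hs.smul_left, S.hs.smul_right, h, mul_zero, mul_zero]
      rw [e, he, S.hs.add_left, S.hs.smul_left, ab S B,
        f_T_T S (show ⟪w, b⟫ = 0 by rw [OSimFour.symm S.D]; exact hbw), zero_add, mul_one] at h'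
      exact ⟨w, by rw [e, h', zero_smul, add_zero]⟩
    obtain ⟨wm, hwm⟩ := hcol m B.zm B.z'm
    obtain ⟨wn, hwn⟩ := hcol n B.zn B.z'n
    refine ⟨⟪x, b⟫ • (L • a) + ⟪x, a⟫ • b + (⟪x, m⟫ / (2 * Q m)) • wm + (⟪x, n⟫ / (2 * Q n)) • wn, ?_⟩
    conv_lhs => rw [B.expand x]
    simp only [S.T_add, S.T_smul, Matrix.mulVec_add, Matrix.mulVec_smul, smul_add, smul_comm (σ l), hwm, hwn, he, hg1a,
      ← hL]
    module
  have hgE : g = E1 * g1 := by rw [hg1]; group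
  exact hgE ▸ mul_mem hE1 hE

/-- An element sending some real point to a real point is scaled real. -/
theorem of_line {a r : ι → F₀} (ha : Q a = 0) (ha0 : a ≠ 0) (hr : Q r = 0) (hr0 : r ≠ 0) {g : GL ι F} (hg : g ∈ K)
    {l : F} (h : (g : Matrix ι ι F) *ᵥ T r = l • T a) : g ∈ M := by
  obtain ⟨k, hk, hka⟩ := exists_real_move S ha ha0 hr hr0
  have := stab S hNT ha ha0 (mul_mem hg (S.le hk)) (l := l) (by rw [gl_mul_mulVec, hka, h])
  have e : g = g * k * k⁻¹ := by group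
  exact e ▸ mul_mem this (inv_mem hk)

end Cfsg.Agent.Classical.UOFour
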