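/-
The stabiliser of a real point moves almost every other coset.
-/
import Cfsg.Agent.Lib.Classical.UOFour.Stab

set_option autoImplicit false
set_option linter.unusedSectionVars false
set_option linter.style.haveILetI false

namespace Cfsg.Agent.Classical.UOFour

open Matrix Cfsg.Geo
open Cfsg.Agent.Classical

variable {ι : Type} [Fintype ι] [DecidableEq ι] {F : Type*} [Field F] {F₀ : Subfield F} [Fintype F₀] {σ : F ≃+* F}
  {θ : F} {f : (ι → F) → (ι → F) → F} {T : (ι → F₀) → ι → F} {Q : (ι → F₀) → F₀} {M K : Subgroup (GL ι F)}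

/-- The polar form. -/
local notation "⟪" x ", " y "⟫" => QuadraticMap.polar Q x y

variable (S : Setup σ θ f T Q M K)

include S

/-- The trace in a real frame. -/
theorem trace_eq {a b m n : ι → F₀} (B : OSimFour.Basis4 Q a b m n) (k : Matrix ι ι F) :
    k.trace = f (k *ᵥ T a) (T b) + f (k *ᵥ T b) (T a) + f (k *ᵥ T m) (T m) / (2 * (Q m : F)) +
      f (k *ᵥ T n) (T n) / (2 * (Q n : F)) := by
  have hfs : ∀ (v p : ι → F), ∑ j, f (Pi.single j 1) p * v j = f v p := fun v p => by
    let L : (ι → F) →+ F :=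
      { toFun := fun x => f x p
        map_zero' := f_zero_left S p
        map_add' := fun x y => S.hs.add_left x y p }
    conv_rhs => rw [show v = ∑ j, v j • (Pi.single j 1 : ι → F) from pi_eq_sum_univ' v]
    show _ = L (∑ j, v j • (Pi.single j 1 : ι → F))
    rw [map_sum]
    exact Finset.sum_congr rfl fun j _ => by
      show _ = f (v j • _) p
      rw [S.hs.smul_left, mul_comm]
  have h : ∀ j, k j j = f (Pi.single j 1) (T b) * (k *ᵥ T a) j + f (Pi.single j 1) (T a) * (k *ᵥ T b) j +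
      f (Pi.single j 1) (T m) * (k *ᵥ T m) j / (2 * (Q m : F)) +
      f (Pi.single j 1) (T n) * (k *ᵥ T n) j / (2 * (Q n : F)) := fun j => by
    have e := congrArg (fun y => (k *ᵥ y) j) (expand S B (Pi.single j 1))
    simp only [Matrix.mulVec_add, Matrix.mulVec_smul, Pi.add_apply, Pi.smul_apply, smul_eq_mul] at e
    rw [Matrix.mulVec_single_one, Matrix.col_apply] at e
    rw [e]; ring
  simp only [Matrix.trace, Matrix.diag_apply, h, Finset.sum_add_distrib, ← Finset.sum_div, hfs]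

theorem InB.trace {a b m n : ι → F₀} (B : OSimFour.Basis4 Q a b m n) {α : F₀} (hα : α ≠ 0) {h : GL ι F}
    (hh : InB f T M a α h) : (h : Matrix ι ι F).trace = ((α + α⁻¹ + 2 : F₀) : F) := by
  have hmid : ∀ v, ⟪a, v⟫ = 0 → Q v ≠ 0 → f ((h : Matrix ι ι F) *ᵥ T v) (T v) / (2 * (Q v : F)) = 1 := by
    intro v hav hv
    obtain ⟨c, hc⟩ := hh.2.2 (T v) (f_T_T S (by rw [OSimFour.symm S.D]; exact hav))
    rw [hc, S.hs.add_left, S.hs.smul_left, f_T_T S hav, mul_zero, add_zero, S.hT, OSimFour.self_eq S.D,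
      Subfield.coe_mul, show ((2 : F₀) : F) = 2 from map_ofNat F₀.subtype 2,
      div_self (mul_ne_zero S.two fun e => hv (Subtype.ext e))]
  have hb : f ((h : Matrix ι ι F) *ᵥ T b) (T a) = ((α⁻¹ : F₀) : F) := by
    have e := S.iso h (S.le hh.1) (T b) (T a)
    rw [hh.2.1, S.hs.smul_right, S.fix, ba S B] at e
    rw [Subfield.coe_inv]
    exact eq_inv_of_mul_eq_one_right e
  have h2 : ((2 : F₀) : F) = 2 := map_ofNat F₀.subtype 2
  rw [trace_eq S B, hh.2.1, hb, hmid m B.zm B.qm, hmid n B.zn B.qn, S.hs.smul_left, ab S B]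
  simp only [Subfield.coe_add, h2]
  ring

theorem InB.rad {a : ι → F₀} {h : GL ι F} (hh : InB f T M a 1 h) : Rad f T a h :=
  ⟨by rw [hh.2.1, Subfield.coe_one, one_smul], hh.2.2⟩

variable (hNT : NoTr σ f T Q K)

include hNT

/-- Off the coset of `M`, the elements with scale `≠ -1` fix nothing but by being trivial. -/
theorem free {a b m n : ι → F₀} (B : OSimFour.Basis4 Q a b m n) {α : F₀} (hα0 : α ≠ 0) (hα : α ≠ -1) {h : GL ι F}
    (hh : InB f T M a α h) (h1 : h ≠ 1) {g : GL ι F} (hg : g ∈ K) (hs : g⁻¹ * h * g ∈ M) : g ∈ M := by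
  have ha0 : a ≠ 0 := (OSimFour.Basis4.ne S.D B).1
  have hTa0 : T a ≠ 0 := fun e => ha0 (T_injective S (by rw [e, T_zero S]))
  obtain ⟨s, hse⟩ : ∃ s, s = g⁻¹ * h * g := ⟨_, rfl⟩
  rw [← hse] at hs
  obtain ⟨l, hl, hls⟩ := S.of_M s hs
  have hsg : ∀ y, (g : Matrix ι ι F) *ᵥ ((s : Matrix ι ι F) *ᵥ y) =
      (h : Matrix ι ι F) *ᵥ ((g : Matrix ι ι F) *ᵥ y) := fun y => by
    rw [← gl_mul_mulVec, ← gl_mul_mulVec, hse]
    congr 2
    group
  have hiso : ∀ {r : ι → F₀} {κ : F}, (g : Matrix ι ι F) *ᵥ T r = κ • T a → Q r = 0 := fun {r κ} e => by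
    have e2 := S.iso g hg (T r) (T r)
    rw [e, S.hs.smul_left, S.hs.smul_right, aa S B, mul_zero, mul_zero, S.hT, OSimFour.self_eq S.D] at e2
    exact (mul_eq_zero.mp (Subtype.ext e2.symm : (2 : F₀) * Q r = 0)).resolve_left S.D.h2
  -- the factor of `s` is real
  have hsl : σ l = l := by
    have e1 := S.trace (l • (s : Matrix ι ι F)) fun x => by
      obtain ⟨y, hy⟩ := hls x
      exact ⟨y, by rw [Matrix.smul_mulVec, hy]⟩
    have e2 : (s : Matrix ι ι F).trace = (h : Matrix ι ι F).trace := by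
      rw [hse, Units.val_mul, Units.val_mul]
      exact Matrix.trace_units_conj' g _
    rw [Matrix.trace_smul, e2, InB.trace S B hα0 hh, smul_eq_mul, map_mul, S.fix] at e1
    refine mul_right_cancel₀ (fun e => hα ?_) e1
    have h2 : α + α⁻¹ + 2 = 0 := Subtype.ext e
    have h3 : (α + 1) * (α + 1) = 0 := by linear_combination α * h2 - mul_inv_cancel₀ hα0
    exact eq_neg_of_add_eq_zero_left (mul_self_eq_zero.mp h3)
  obtain ⟨L, hL⟩ := mem_of_fixed S hsl
  have hL0 : L ≠ 0 := fun e => hl (by rw [hL, e]; rfl)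
  have hreal : ∀ x, ∃ y, (s : Matrix ι ι F) *ᵥ T x = T y := fun x => by
    obtain ⟨y, hy⟩ := hls x
    exact ⟨L⁻¹ • y, by rw [S.T_smul, ← hy, smul_smul, hL, Subfield.coe_inv, inv_mul_cancel₀ (hL ▸ hl), one_smul]⟩
  obtain ⟨c, c', hc⟩ := S.T_dec (((g⁻¹ : GL ι F) : Matrix ι ι F) *ᵥ T a)
  have hgz : (g : Matrix ι ι F) *ᵥ (T c + θ • T c') = T a := by rw [← hc, gl_mulVec_inv_cancel]
  by_cases hα1 : α = 1
  · subst hα1
    obtain ⟨w, haw, hbw, hw⟩ := radical S B (noTr_at S hNT B) (S.le hh.1) (InB.rad S hh)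
    by_cases hQw : Q w = 0
    · -- a totally singular line: compare with the real structure
      obtain ⟨d, d', hd⟩ := S.T_dec (((g⁻¹ : GL ι F) : Matrix ι ι F) *ᵥ T w)
      have himag : ∀ x, ⟪x, c⟫ • d' - ⟪x, c'⟫ • d - ⟪x, d⟫ • c' + ⟪x, d'⟫ • c = 0 := by
        intro x
        obtain ⟨y, hy⟩ := hreal x
        have hT' : ∀ u u', f (T x) (T u + θ • T u') = ((⟪x, u⟫ : F₀) : F) - θ * ((⟪x, u'⟫ : F₀) : F) := fun u u' => by
          rw [S.hs.add_right, S.hs.smul_right, S.theta, S.hT, S.hT]; ring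
        have e : (s : Matrix ι ι F) *ᵥ T x = T x + f (T x) (T c + θ • T c') • (T d + θ • T d') -
            f (T x) (T d + θ • T d') • (T c + θ • T c') := gl_mulVec_injective g (by
          dsimp only
          rw [hsg, hw, hQw, Subfield.coe_zero, zero_mul, add_zero, ← hc, ← hd]
          simp only [Matrix.mulVec_add, Matrix.mulVec_sub, Matrix.mulVec_smul, gl_mulVec_inv_cancel,
            ← conj_iso S (inv_mem hg), inv_inv])
        rw [hy, hT', hT'] at e
        obtain ⟨ν, hν⟩ := exists_nu S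
        have e' : T y + θ • T 0 =
            T (x + ⟪x, c⟫ • d - (ν * ⟪x, c'⟫) • d' - ⟪x, d⟫ • c + (ν * ⟪x, d'⟫) • c') +
              θ • T (⟪x, c⟫ • d' - ⟪x, c'⟫ • d - ⟪x, d⟫ • c' + ⟪x, d'⟫ • c) := by
          rw [T_zero S, smul_zero, add_zero, e]
          simp only [S.T_add, T_sub S, S.T_smul, Subfield.coe_mul, ← hν]
          module
        exact (T_unique S e').2.symm
      by_cases hdep : c ∈ Submodule.span F₀ (Set.range ![c'])
      · obtain ⟨k, hk⟩ := OSimFour.mem_span1 S.D hdep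
        have hz : T c + θ • T c' = ((k : F) + θ) • T c' := by rw [hk, S.T_smul]; module
        have hκ : (k : F) + θ ≠ 0 := fun e => hTa0 (by rw [← hgz, hz, e, zero_smul, Matrix.mulVec_zero])
        rw [hz, Matrix.mulVec_smul] at hgz
        have e : (g : Matrix ι ι F) *ᵥ T c' = ((k : F) + θ)⁻¹ • T a := by
          rw [← hgz, smul_smul, inv_mul_cancel₀ hκ, one_smul]
        refine of_line S hNT B.qz ha0 (hiso e) (fun e0 => ?_) hg e
        rw [e0, T_zero S, Matrix.mulVec_zero, smul_zero] at hgz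
        exact hTa0 hgz.symm
      by_cases hc'0 : c' = 0
      · rw [hc'0, T_zero S, smul_zero, add_zero] at hgz
        have hc0 : c ≠ 0 := fun e => hTa0 (by rw [← hgz, e, T_zero S, Matrix.mulVec_zero])
        exact of_line S hNT B.qz ha0 (hiso (κ := 1) (by rw [hgz, one_smul])) hc0 hg (l := 1) (by rw [hgz, one_smul])
      exfalso
      have hdep' : c' ∉ Submodule.span F₀ (Set.range ![c]) := fun hm => by
        obtain ⟨k, hk⟩ := OSimFour.mem_span1 S.D hm
        by_cases hk0 : k = 0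
        · exact hc'0 (by rw [hk, hk0, zero_smul])
        · exact hdep (by
            rw [show c = k⁻¹ • c' by rw [hk, smul_smul, inv_mul_cancel₀ hk0, one_smul]]
            exact Submodule.smul_mem _ _ (Submodule.subset_span ⟨0, rfl⟩))
      obtain ⟨x1, hx1, hx1c⟩ := OSimFour.exists_sep S.D hdep
      obtain ⟨x2, hx2, hx2c⟩ := OSimFour.exists_sep S.D hdep'
      have e1 := himag x1
      have e2 := himag x2
      rw [hx1c, show ⟪x1, c'⟫ = 0 from hx1 0, one_smul, zero_smul, sub_zero] at e1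
      rw [hx2c, show ⟪x2, c⟫ = 0 from hx2 0, one_smul, zero_smul, zero_sub] at e2
      have hdd' : d' = ⟪x1, d⟫ • c' - ⟪x1, d'⟫ • c := by linear_combination (norm := module) e1
      have hdd : d = ⟪x2, d'⟫ • c - ⟪x2, d⟫ • c' := by linear_combination (norm := module) -e2
      have p1 : ⟪x1, d⟫ = ⟪x2, d'⟫ := by
        have := congrArg (fun v => ⟪x1, v⟫) hdd
        simp only [OSimFour.sub_right S.D, OSimFour.smul_right S.D, hx1c, show ⟪x1, c'⟫ = 0 from hx1 0] at this
        rw [this]; ring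
      have p2 : ⟪x1, d'⟫ = 0 := by
        have := congrArg (fun v => ⟪x1, v⟫) hdd'
        simp only [OSimFour.sub_right S.D, OSimFour.smul_right S.D, hx1c, show ⟪x1, c'⟫ = 0 from hx1 0] at this
        exact (mul_eq_zero.mp (show 2 * ⟪x1, d'⟫ = 0 by linear_combination this)).resolve_left S.D.h2
      have p3 : ⟪x2, d⟫ = 0 := by
        have := congrArg (fun v => ⟪x2, v⟫) hdd
        simp only [OSimFour.sub_right S.D, OSimFour.smul_right S.D, hx2c, show ⟪x2, c⟫ = 0 from hx2 0] at this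
        exact (mul_eq_zero.mp (show 2 * ⟪x2, d⟫ = 0 by linear_combination this)).resolve_left S.D.h2
      rw [p2, zero_smul, sub_zero, p1] at hdd'
      rw [p3, zero_smul, sub_zero] at hdd
      obtain ⟨k, hk⟩ : ∃ k, k = ⟪x2, d'⟫ := ⟨_, rfl⟩
      rw [← hk] at hdd hdd'
      have hwa : w = k • a := T_injective S (gl_mulVec_injective g⁻¹ (by
        dsimp only
        rw [hd, S.T_smul, Matrix.mulVec_smul, hc]
        conv_lhs => rw [hdd, hdd', S.T_smul, S.T_smul]
        module))
      have h0 : k = 0 := by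
        rw [hwa, OSimFour.smul_right S.D, OSimFour.symm S.D b a, B.zz, mul_one] at hbw
        exact hbw
      rw [h0, zero_smul] at hwa
      refine h1 (gl_ext_mulVec fun y => ?_)
      rw [hw, hwa, T_zero S, f_zero_right S, OSimFour.quad_zero' S.D, Subfield.coe_zero]; simp
    · -- the square of the nilpotent part points to the centre
      obtain ⟨x, hx⟩ : ∃ x, f ((g : Matrix ι ι F) *ᵥ T x) (T a) ≠ 0 := by
        by_contra hcon
        push Not at hcon
        obtain ⟨u, u', hu⟩ := S.T_dec (((g⁻¹ : GL ι F) : Matrix ι ι F) *ᵥ T b)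
        have := ba S B
        rw [← gl_mulVec_inv_cancel g (T b), hu, Matrix.mulVec_add, Matrix.mulVec_smul, S.hs.add_left, S.hs.smul_left,
          hcon, hcon, mul_zero, add_zero] at this
        exact zero_ne_one this
      obtain ⟨y1, hy1⟩ := hreal x
      obtain ⟨y2, hy2⟩ := hreal y1
      have e : (g : Matrix ι ι F) *ᵥ T (y2 - y1 - (y1 - x)) =
          (-(2 * (Q w : F) * f ((g : Matrix ι ι F) *ᵥ T x) (T a))) • T a := by
        rw [T_sub S, T_sub S, T_sub S, ← hy2, ← hy1]
        simp only [Matrix.mulVec_sub, hsg]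
        obtain ⟨z, hz⟩ : ∃ z, z = (g : Matrix ι ι F) *ᵥ T x := ⟨_, rfl⟩
        rw [← hz, hw z]
        have hwa : ⟪w, a⟫ = 0 := by rw [OSimFour.symm S.D]; exact haw
        rw [hw]
        simp only [S.hs.add_left, S.hs.smul_left, f_sub_left S, f_T_T S hwa, aa S B, f_T_T S haw, S.hT w w,
          OSimFour.self_eq S.D, Subfield.coe_mul, show ((2 : F₀) : F) = 2 from map_ofNat F₀.subtype 2]
        module
      refine of_line S hNT B.qz ha0 (hiso e) (fun e0 => ?_) hg e
      rw [e0, T_zero S, Matrix.mulVec_zero] at e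
      exact mul_ne_zero (mul_ne_zero S.two fun h => hQw (Subtype.ext h)) hx
        (neg_eq_zero.mp ((smul_eq_zero.mp e.symm).resolve_right hTa0))
  · -- an eigenvector
    obtain ⟨u, hu⟩ := hreal c
    obtain ⟨u', hu'⟩ := hreal c'
    have hz : (s : Matrix ι ι F) *ᵥ (T c + θ • T c') = (α : F) • (T c + θ • T c') := gl_mulVec_injective g (by
      dsimp only
      rw [hsg, hgz, hh.2.1, Matrix.mulVec_smul, hgz])
    have e : T u + θ • T u' = T (α • c) + θ • T (α • c') := by
      rw [← hu, ← hu', ← Matrix.mulVec_smul, ← Matrix.mulVec_add, hz, S.T_smul, S.T_smul]; module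
    obtain ⟨r, hr0, hr⟩ : ∃ r, r ≠ 0 ∧ (s : Matrix ι ι F) *ᵥ T r = (α : F) • T r := by
      by_cases hc0 : c = 0
      · refine ⟨c', fun e0 => hTa0 ?_, by rw [hu', (T_unique S e).2, S.T_smul]⟩
        rw [← hgz, hc0, e0, T_zero S]; simp
      · exact ⟨c, hc0, by rw [hu, (T_unique S e).1, S.T_smul]⟩
    obtain ⟨y, hy⟩ : ∃ y, y = (g : Matrix ι ι F) *ᵥ T r := ⟨_, rfl⟩
    have hhy : (h : Matrix ι ι F) *ᵥ y = (α : F) • y := by rw [hy, ← hsg, hr, Matrix.mulVec_smul]
    have hαF : (α : F) ≠ 0 := fun h => hα0 (Subtype.ext h)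
    have hya : f y (T a) = 0 := by
      have e2 := S.iso h (S.le hh.1) y (T a)
      rw [hhy, hh.2.1, S.hs.smul_left, S.hs.smul_right, S.fix] at e2
      have h3 : ((α : F) * α - 1) * f y (T a) = 0 := by linear_combination e2
      refine (mul_eq_zero.mp h3).resolve_left fun h4 => ?_
      have h5 : ((α : F) - 1) * ((α : F) + 1) = 0 := by linear_combination h4
      rcases mul_eq_zero.mp h5 with h6 | h6
      · exact hα1 (Subtype.ext (sub_eq_zero.mp h6))
      · exact hα (Subtype.ext (by rw [Subfield.coe_neg, Subfield.coe_one]; exact eq_neg_of_add_eq_zero_left h6))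
    obtain ⟨k, hk⟩ := hh.2.2 y hya
    have hd : (α : F) - 1 ≠ 0 := sub_ne_zero.mpr fun h => hα1 (Subtype.ext h)
    have hy' : y = (k / ((α : F) - 1)) • T a := by
      rw [hhy] at hk
      rw [div_eq_inv_mul, ← smul_smul, show k • T a = ((α : F) - 1) • y by rw [sub_smul, one_smul, hk]; abel, smul_smul,
        inv_mul_cancel₀ hd, one_smul]
    exact of_line S hNT B.qz ha0 (hiso (hy ▸ hy')) hr0 hg (hy ▸ hy')

end Cfsg.Agent.Classical.UOFour
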