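/-
Counting the cosets of the scaled real group in an overgroup without transvections.
-/
import Cfsg.Agent.Lib.Classical.UOFour.Free

set_option autoImplicit false
set_option linter.unusedSectionVars false
set_option linter.style.haveILetI false

namespace Cfsg.Agent.Classical.UOFour

open Matrix Cfsg.Geo
open Cfsg.Agent.Classical

/-- An action with one fixed point and small stabilisers elsewhere. -/
theorem small_stab_dvd {G X : Type*} [Group G] [Finite G] [Finite X] [MulAction G X] {x0 : X}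
    (h0 : ∀ g : G, g • x0 = x0) (hst : ∀ x, x ≠ x0 → Nat.card (MulAction.stabilizer G x) ∣ 2) :
    Nat.card G ∣ 2 * (Nat.card X - 1) := by
  classical
  haveI : Fintype (MulAction.orbitRel.Quotient G X) := Fintype.ofFinite _
  have hX : Nat.card X = ∑ ω : MulAction.orbitRel.Quotient G X, Nat.card ω.orbit := by
    rw [Nat.card_congr (MulAction.selfEquivSigmaOrbits' G X), Nat.card_sigma]
  obtain ⟨ω0, hω0⟩ : ∃ ω0 : MulAction.orbitRel.Quotient G X, ω0 = Quotient.mk'' x0 := ⟨_, rfl⟩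
  have h1 : Nat.card ω0.orbit = 1 := by
    have : MulAction.orbit G x0 = {x0} := Set.ext fun y => ⟨fun ⟨g, hg⟩ => hg.symm.trans (h0 g),
      fun hy => ⟨1, (h0 1).trans (Set.mem_singleton_iff.mp hy).symm⟩⟩
    rw [hω0, MulAction.orbitRel.Quotient.orbit_mk, this]
    exact (Nat.card_eq_one_iff_unique).mpr ⟨inferInstance, inferInstance⟩
  rw [hX, ← Finset.add_sum_erase _ _ (Finset.mem_univ ω0), h1, Nat.add_sub_cancel_left, Finset.mul_sum]
  refine Finset.dvd_sum fun ω hω => ?_
  induction ω using Quotient.inductionOn' with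
  | h x =>
    have hx : x ≠ x0 := fun e => (Finset.mem_erase.mp hω).1 (by rw [hω0, e])
    have h := Nat.card_congr (MulAction.orbitProdStabilizerEquivGroup G x)
    rw [Nat.card_prod] at h
    obtain ⟨c, hc⟩ := hst x hx
    rw [MulAction.orbitRel.Quotient.orbit_mk]
    exact ⟨c, by rw [← h, mul_comm 2, mul_assoc, ← hc]⟩

variable {ι : Type} [Fintype ι] [DecidableEq ι] {F : Type*} [Field F] [Fintype F] {F₀ : Subfield F} [Fintype F₀]
  {σ : F ≃+* F} {θ : F} {f : (ι → F) → (ι → F) → F} {T : (ι → F₀) → ι → F} {Q : (ι → F₀) → F₀}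
  {M K : Subgroup (GL ι F)}

/-- The polar form. -/
local notation "⟪" x ", " y "⟫" => QuadraticMap.polar Q x y

/-- The group of the elements of `InB`. -/
def BGrp (f : (ι → F) → (ι → F) → F) (T : (ι → F₀) → ι → F) (M : Subgroup (GL ι F)) (a : ι → F₀) :
    Subgroup (GL ι F) :=
  Subgroup.closure {h | ∃ α : F₀, α ≠ 0 ∧ InB f T M a α h}

variable (S : Setup σ θ f T Q M K)

include S

theorem mem_BGrp {a : ι → F₀} (ha0 : a ≠ 0) {h : GL ι F} (hh : h ∈ BGrp f T M a) :
    ∃ α : F₀, α ≠ 0 ∧ InB f T M a α h := by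
  induction hh using Subgroup.closure_induction with
  | mem x hx => exact hx
  | one => exact ⟨1, one_ne_zero, one_mem M, by simp, fun x _ => ⟨0, by simp⟩⟩
  | mul x y _ _ hx hy =>
    obtain ⟨α, hα, hx⟩ := hx
    obtain ⟨β, hβ, hy⟩ := hy
    exact ⟨α * β, mul_ne_zero hα hβ, InB.mul S hx hy⟩
  | inv x _ hx =>
    obtain ⟨α, hα, hx⟩ := hx
    exact ⟨α⁻¹, inv_ne_zero hα, InB.inv S ha0 hx⟩

variable (hNT : NoTr σ f T Q K)

include hNT

theorem card_BGrp {a b m n : ι → F₀} (B : OSimFour.Basis4 Q a b m n) :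
    Nat.card (BGrp f T M a) = Fintype.card F₀ ^ 2 * (Fintype.card F₀ - 1) := by
  classical
  have ha0 : a ≠ 0 := (OSimFour.Basis4.ne S.D B).1
  have hTa0 : T a ≠ 0 := fun e => ha0 (T_injective S (by rw [e, T_zero S]))
  have hav : ∀ x y : F₀, ⟪a, x • m + y • n⟫ = 0 := fun x y => by
    rw [OSimFour.add_right S.D, OSimFour.smul_right S.D, OSimFour.smul_right S.D, B.zm, B.zn]; ring
  have hbv : ∀ x y : F₀, ⟪b, x • m + y • n⟫ = 0 := fun x y => by
    rw [OSimFour.add_right S.D, OSimFour.smul_right S.D, OSimFour.smul_right S.D, B.z'm, B.z'n]; ring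
  choose E hE hEy using fun p : F₀ × F₀ => exists_eich S B.qz (hav p.1 p.2)
  choose t ht htb htm htn using fun u : F₀ˣ => exists_tor S B u.ne_zero
  have hEB : ∀ p, InB f T M a 1 (E p) := fun p =>
    ⟨hE p, by rw [(rad_eich S B.qz (hav p.1 p.2) (hEy p)).1, Subfield.coe_one, one_smul],
      (rad_eich S B.qz (hav p.1 p.2) (hEy p)).2⟩
  let Φ : F₀ˣ × (F₀ × F₀) → BGrp f T M a := fun z => ⟨t z.1 * E z.2,
    Subgroup.subset_closure ⟨(z.1 : F₀) * 1, by simp, InB.mul S (ht z.1) (hEB z.2)⟩⟩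
  have hΦ : Function.Bijective Φ := by
    constructor
    · rintro ⟨u, p⟩ ⟨u', p'⟩ e
      have e1 := congrArg (fun z : BGrp f T M a => ((z : GL ι F) : Matrix ι ι F) *ᵥ T a) e
      simp only [Φ, gl_mul_mulVec, (hEB _).2.1, Subfield.coe_one, one_smul, (ht _).2.1] at e1
      obtain rfl : u = u' := Units.ext (Subtype.ext (smul_left_injective F hTa0 e1))
      have e2 : E p = E p' := mul_left_cancel (congrArg Subtype.val e : t u * E p = t u * E p')
      have e3 := congrArg (fun z : GL ι F => f ((z : Matrix ι ι F) *ᵥ T b) (T m)) e2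
      have e4 := congrArg (fun z : GL ι F => f ((z : Matrix ι ι F) *ᵥ T b) (T n)) e2
      simp only [hEy, ba S B, f_T_T S (hbv _ _), f_sub_left S, S.hs.add_left, S.hs.smul_left, f_T_T S B.zm,
        f_T_T S B.zn, f_T_T S B.z'm, f_T_T S B.z'n, mul_zero, sub_zero, zero_add, one_mul] at e3 e4
      rw [S.hT, S.hT] at e3 e4
      have e3' : ⟪p.1 • m + p.2 • n, m⟫ = ⟪p'.1 • m + p'.2 • n, m⟫ := Subtype.ext e3
      have e4' : ⟪p.1 • m + p.2 • n, n⟫ = ⟪p'.1 • m + p'.2 • n, n⟫ := Subtype.ext e4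
      simp only [OSimFour.add_left S.D, OSimFour.smul_left S.D, OSimFour.self_eq S.D, B.mn, OSimFour.symm S.D n m,
        mul_zero, add_zero, zero_add] at e3' e4'
      exact Prod.ext rfl (Prod.ext (mul_right_cancel₀ (mul_ne_zero S.D.h2 B.qm) e3')
        (mul_right_cancel₀ (mul_ne_zero S.D.h2 B.qn) e4'))
    · rintro ⟨h, hh⟩
      obtain ⟨α, hα, hB⟩ := mem_BGrp S ha0 hh
      have h1 := InB.mul S (InB.inv S ha0 (ht (Units.mk0 α hα))) hB
      rw [Units.val_mk0, inv_mul_cancel₀ hα] at h1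
      obtain ⟨w, haw, hbw, hw⟩ := radical S B (noTr_at S hNT B) (S.le h1.1) (InB.rad S h1)
      obtain ⟨x, hx⟩ : ∃ x, x = ⟪w, m⟫ / (2 * Q m) := ⟨_, rfl⟩
      obtain ⟨y, hy⟩ : ∃ y, y = ⟪w, n⟫ / (2 * Q n) := ⟨_, rfl⟩
      have hwe : w = x • m + y • n := by
        conv_lhs => rw [B.expand w, OSimFour.symm S.D w b, hbw, OSimFour.symm S.D w a, haw]
        rw [hx, hy]; simp
      subst hwe
      refine ⟨(Units.mk0 α hα, (x, y)), Subtype.ext ?_⟩
      have e : E (x, y) = (t (Units.mk0 α hα))⁻¹ * h := gl_ext_mulVec fun v => by rw [hEy, hw v]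
      simp only [Φ, e]
      group
  rw [← Nat.card_eq_of_bijective _ hΦ, Nat.card_prod, Nat.card_prod, Nat.card_units, Nat.card_eq_fintype_card]
  ring

/-- The number of cosets. -/
theorem coset_dvd {a b m n : ι → F₀} (B : OSimFour.Basis4 Q a b m n) :
    Fintype.card F₀ ^ 2 * (Fintype.card F₀ - 1) ∣ 2 * (Nat.card (K ⧸ M.subgroupOf K) - 1) := by
  classical
  have ha0 : a ≠ 0 := (OSimFour.Basis4.ne S.D B).1
  rw [← card_BGrp S hNT B]
  have hle : BGrp f T M a ≤ K := fun h hh => by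
    obtain ⟨α, -, hB⟩ := mem_BGrp S ha0 hh
    exact S.le hB.1
  letI : MulAction (BGrp f T M a) (K ⧸ M.subgroupOf K) :=
    MulAction.compHom _ (Subgroup.inclusion hle)
  refine small_stab_dvd (x0 := ((1 : K) : K ⧸ M.subgroupOf K)) (fun g => ?_) fun x hx => ?_
  · show (((Subgroup.inclusion hle g) * 1 : K) : K ⧸ M.subgroupOf K) = _
    rw [QuotientGroup.eq, Subgroup.mem_subgroupOf]
    obtain ⟨α, -, hB⟩ := mem_BGrp S ha0 g.2
    simp only [mul_one]
    exact inv_mem hB.1
  · induction x using QuotientGroup.induction_on with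
    | H g =>
      have hgM : (g : GL ι F) ∉ M := fun h => hx (by
        rw [QuotientGroup.eq, Subgroup.mem_subgroupOf]
        simp only [mul_one]
        exact inv_mem h)
      have key : ∀ s : MulAction.stabilizer (BGrp f T M a) ((g : K) : K ⧸ M.subgroupOf K), ∀ α : F₀, α ≠ 0 →
          InB f T M a α ((s : BGrp f T M a) : GL ι F) → α ≠ -1 → ((s : BGrp f T M a) : GL ι F) = 1 := by
        intro s α hα hB hne
        by_contra h1
        refine hgM (free S hNT B hα hne hB h1 g.2 ?_)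
        have h : (((Subgroup.inclusion hle (s : BGrp f T M a)) * g : K) : K ⧸ M.subgroupOf K) = (g : K) := s.2
        rw [QuotientGroup.eq, Subgroup.mem_subgroupOf] at h
        have h' := inv_mem h
        simpa [mul_assoc] using h'
      have hα' : ∀ s : MulAction.stabilizer (BGrp f T M a) ((g : K) : K ⧸ M.subgroupOf K), ∃ α : F₀, α ≠ 0 ∧
          InB f T M a α ((s : BGrp f T M a) : GL ι F) := fun s => mem_BGrp S ha0 (s : BGrp f T M a).2
      -- at most two elements, so one or two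
      have hinj : ∀ s t : MulAction.stabilizer (BGrp f T M a) ((g : K) : K ⧸ M.subgroupOf K),
          s ≠ 1 → t ≠ 1 → s = t := by
        intro s t hs ht
        obtain ⟨α, hα, hA⟩ := hα' s
        obtain ⟨β, hβ, hB⟩ := hα' t
        have hα1 : α = -1 := by
          by_contra hne
          exact hs (Subtype.ext (Subtype.ext (key s α hα hA hne)))
        have hβ1 : β = -1 := by
          by_contra hne
          exact ht (Subtype.ext (Subtype.ext (key t β hβ hB hne)))
        have h := InB.mul S (InB.inv S ha0 hA) hB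
        have e := key (s⁻¹ * t) (α⁻¹ * β) (mul_ne_zero (inv_ne_zero hα) hβ) (by simpa using h) (by
          rw [hα1, hβ1, inv_mul_cancel₀ (neg_ne_zero.mpr one_ne_zero)]
          intro h2
          exact S.D.h2 (by linear_combination h2))
        exact (inv_mul_eq_one.mp (Subtype.ext (Subtype.ext e) : s⁻¹ * t = 1))
      have hcard : Nat.card (MulAction.stabilizer (BGrp f T M a) ((g : K) : K ⧸ M.subgroupOf K)) ≤ 2 := by
        by_cases h : ∃ s : MulAction.stabilizer (BGrp f T M a) ((g : K) : K ⧸ M.subgroupOf K), s ≠ 1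
        · obtain ⟨s, hs⟩ := h
          have : Function.Surjective (fun b : Bool => if b then s else 1) := fun x => by
            by_cases hx : x = 1
            · exact ⟨false, by simp [hx]⟩
            · exact ⟨true, by simp [hinj x s hx hs]⟩
          simpa using Nat.card_le_card_of_surjective _ this
        · push Not at h
          haveI : Subsingleton (MulAction.stabilizer (BGrp f T M a) ((g : K) : K ⧸ M.subgroupOf K)) :=
            ⟨fun x y => (h x).trans (h y).symm⟩
          exact (Finite.card_le_one_iff_subsingleton.mpr inferInstance).trans one_le_two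
      have hpos : 0 < Nat.card (MulAction.stabilizer (BGrp f T M a) ((g : K) : K ⧸ M.subgroupOf K)) := Nat.card_pos
      interval_cases Nat.card (MulAction.stabilizer (BGrp f T M a) ((g : K) : K ⧸ M.subgroupOf K)) <;> norm_num

/-- Few points: the bound on the number of cosets. -/
theorem coset_le (hF : Fintype.card F = Fintype.card F₀ ^ 2) {a b m n : ι → F₀} (B : OSimFour.Basis4 Q a b m n) :
    (Nat.card (K ⧸ M.subgroupOf K) - 1) * (Fintype.card F₀ ^ 2 - Fintype.card F₀) ≤ Fintype.card F₀ ^ 5 := by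
  classical
  have ha0 : a ≠ 0 := (OSimFour.Basis4.ne S.D B).1
  have hTa0 : T a ≠ 0 := fun e => ha0 (T_injective S (by rw [e, T_zero S]))
  haveI : Fintype (K ⧸ M.subgroupOf K) := Fintype.ofFinite _
  let pm : F₀ × F₀ → ι → F₀ := fun p => p.1 • m + p.2 • n
  let r : F₀ × F₀ → ι → F₀ := fun p => b + pm p - Q (pm p) • a
  have hpa : ∀ p, ⟪a, pm p⟫ = 0 := fun p => by
    simp only [pm, OSimFour.add_right S.D, OSimFour.smul_right S.D, B.zm, B.zn]; ring
  have hpb : ∀ p, ⟪b, pm p⟫ = 0 := fun p => by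
    simp only [pm, OSimFour.add_right S.D, OSimFour.smul_right S.D, B.z'm, B.z'n]; ring
  have hra : ∀ p, ⟪r p, a⟫ = 1 := fun p => by
    simp only [r, OSimFour.sub_left S.D, OSimFour.add_left S.D, OSimFour.smul_left S.D, OSimFour.self_zero S.D B.qz,
      OSimFour.symm S.D b a, B.zz, OSimFour.symm S.D (pm p) a, hpa]; ring
  have hr0 : ∀ p, r p ≠ 0 := fun p e => by
    have := hra p
    rw [e, OSimFour.zero_left S.D] at this
    exact zero_ne_one this
  have hrQ : ∀ p, Q (r p) = 0 := fun p => by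
    simp only [r, sub_eq_add_neg, ← neg_smul, OSimFour.quad_sum S.D, OSimFour.quad_smul S.D, B.qz, B.qz',
      OSimFour.add_left S.D, OSimFour.smul_right S.D, hpb, OSimFour.symm S.D b a, B.zz, OSimFour.symm S.D (pm p) a, hpa]
    ring
  have hrm : ∀ p, ⟪r p, m⟫ = p.1 * (2 * Q m) ∧ ⟪r p, n⟫ = p.2 * (2 * Q n) := fun p => by
    simp only [r, pm, OSimFour.sub_left S.D, OSimFour.add_left S.D, OSimFour.smul_left S.D, B.z'm, B.z'n, B.zm, B.zn,
      B.mn, OSimFour.symm S.D n m, OSimFour.self_eq S.D]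
    constructor <;> ring
  let g : (K ⧸ M.subgroupOf K) → GL ι F := fun x => ((x.out : K) : GL ι F)
  let P := {z : (K ⧸ M.subgroupOf K) × (F₀ × F₀) // z.1 ≠ ((1 : K) : K ⧸ M.subgroupOf K) ∧
    f ((g z.1 : Matrix ι ι F) *ᵥ T (r z.2)) (T a) ≠ 0}
  have hgK : ∀ x, g x ∈ K := fun x => (x.out : K).2
  have hgM : ∀ x, x ≠ ((1 : K) : K ⧸ M.subgroupOf K) → g x ∉ M := fun x hx h => hx (by
    rw [← x.out_eq', QuotientGroup.eq, Subgroup.mem_subgroupOf]
    simp only [mul_one]
    exact inv_mem h)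
  -- upper bound
  choose re im him using S.dec
  let v : P → ι → F := fun z => (f ((g z.1.1 : Matrix ι ι F) *ᵥ T (r z.1.2)) (T a))⁻¹ •
    ((g z.1.1 : Matrix ι ι F) *ᵥ T (r z.1.2))
  have hva : ∀ z, f (v z) (T a) = 1 := fun z => by
    simp only [v, S.hs.smul_left, inv_mul_cancel₀ z.2.2]
  have hvv : ∀ z, f (v z) (v z) = 0 := fun z => by
    simp only [v, S.hs.smul_left, S.hs.smul_right, S.iso _ (hgK _),
      f_T_T S (OSimFour.self_zero S.D (hrQ _)), mul_zero]
  have hup : Nat.card P ≤ Fintype.card F * Fintype.card F * Fintype.card F₀ := by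
    refine le_trans (Nat.card_le_card_of_injective (fun z => ((f (v z) (T m), f (v z) (T n)), im (f (v z) (T b))))
      fun z z' e => ?_) (le_of_eq (by simp [Nat.card_prod]))
    simp only [Prod.mk.injEq] at e
    obtain ⟨⟨e1, e2⟩, e3⟩ := e
    have he : v z = v z' := by
      have hsq : ∀ z, f (v z) (T b) + σ (f (v z) (T b)) +
          f (v z) (T m) * σ (f (v z) (T m)) / (2 * (Q m : F)) +
          f (v z) (T n) * σ (f (v z) (T n)) / (2 * (Q n : F)) = 0 := fun z => by
        have h := hvv z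
        nth_rewrite 1 [expand S B (v z)] at h
        simp only [S.hs.add_left, S.hs.smul_left, hva] at h
        rw [S.herm (T a) (v z), hva, map_one, S.herm (T b) (v z), S.herm (T m) (v z), S.herm (T n) (v z)] at h
        linear_combination h
      have hre : re (f (v z) (T b)) = re (f (v z') (T b)) := by
        have h1 := hsq z
        have h2 := hsq z'
        rw [him (f (v z) (T b)), e1, e2, map_add, map_mul, S.fix, S.fix, S.theta] at h1
        rw [him (f (v z') (T b)), map_add, map_mul, S.fix, S.fix, S.theta] at h2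
        exact Subtype.ext (mul_left_cancel₀ S.two (by linear_combination h1 - h2))
      rw [expand S B (v z), expand S B (v z'), hva, hva, e1, e2, him (f (v z) (T b)), him (f (v z') (T b)), hre, e3]
    have hn0 := inv_ne_zero z.2.2
    obtain ⟨κ, hκ⟩ : ∃ κ : F, (g z.1.1 : Matrix ι ι F) *ᵥ T (r z.1.2) = κ • ((g z'.1.1 : Matrix ι ι F) *ᵥ T (r z'.1.2)) :=
      ⟨f ((g z.1.1 : Matrix ι ι F) *ᵥ T (r z.1.2)) (T a) * (f ((g z'.1.1 : Matrix ι ι F) *ᵥ T (r z'.1.2)) (T a))⁻¹, by
        have h := congrArg (fun w => f ((g z.1.1 : Matrix ι ι F) *ᵥ T (r z.1.2)) (T a) • w) he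
        simp only [v, smul_smul, mul_inv_cancel₀ z.2.2, one_smul] at h
        exact h⟩
    have h1 : ((g z'.1.1)⁻¹ * g z.1.1 : GL ι F) ∈ M := of_line S hNT (hrQ z'.1.2) (hr0 _) (hrQ z.1.2) (hr0 _)
      (mul_mem (inv_mem (hgK _)) (hgK _)) (l := κ) (by rw [gl_mul_mulVec, hκ, Matrix.mulVec_smul, gl_inv_mulVec_cancel])
    have hx : z.1.1 = z'.1.1 := by
      rw [← z.1.1.out_eq', ← z'.1.1.out_eq', QuotientGroup.eq, Subgroup.mem_subgroupOf]
      simpa [g] using inv_mem h1
    rw [← hx, ← Matrix.mulVec_smul] at hκ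
    have h4 := gl_mulVec_injective (g z.1.1) hκ
    have hk1 : κ = 1 := by
      have h5 := congrArg (fun w => f w (T a)) h4
      simp only [S.hs.smul_left, S.hT, hra, Subfield.coe_one, mul_one] at h5
      exact h5.symm
    rw [hk1, one_smul] at h4
    have h6 := T_injective S h4
    refine Subtype.ext (Prod.ext hx (Prod.ext ?_ ?_))
    · exact mul_right_cancel₀ (mul_ne_zero S.D.h2 B.qm) ((hrm _).1.symm.trans (h6 ▸ (hrm _).1))
    · exact mul_right_cancel₀ (mul_ne_zero S.D.h2 B.qn) ((hrm _).2.symm.trans (h6 ▸ (hrm _).2))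
  -- few bad points in each coset
  have hbad : ∀ x, x ≠ ((1 : K) : K ⧸ M.subgroupOf K) →
      Nat.card {p : F₀ × F₀ // f ((g x : Matrix ι ι F) *ᵥ T (r p)) (T a) = 0} ≤ Fintype.card F₀ := by
    intro x hx
    obtain ⟨c, c', hc⟩ := S.T_dec ((((g x)⁻¹ : GL ι F) : Matrix ι ι F) *ᵥ T a)
    have hgz : (g x : Matrix ι ι F) *ᵥ (T c + θ • T c') = T a := by rw [← hc, gl_mulVec_inv_cancel]
    obtain ⟨L, hL, hLa, hL0⟩ : ∃ L : ι → F₀, (∀ p, f ((g x : Matrix ι ι F) *ᵥ T (r p)) (T a) = 0 → ⟪r p, L⟫ = 0) ∧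
        ⟪L, a⟫ = 0 ∧ L ≠ 0 := by
      have hz : ∀ p, f ((g x : Matrix ι ι F) *ᵥ T (r p)) (T a) = 0 → ⟪r p, c⟫ = 0 ∧ ⟪r p, c'⟫ = 0 := fun p h => by
        rw [← hgz, S.iso _ (hgK _), S.hs.add_right, S.hs.smul_right, S.theta, S.hT, S.hT] at h
        obtain ⟨h1, h2⟩ := coord_unique S (a := ⟪r p, c⟫) (b := -⟪r p, c'⟫) (by
          rw [Subfield.coe_neg]; linear_combination h)
        exact ⟨h1, neg_eq_zero.mp h2⟩
      have hiso : ∀ {u : ι → F₀} {κ : F}, (g x : Matrix ι ι F) *ᵥ T u = κ • T a → u = 0 := fun {u κ} e => by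
        by_contra hu
        refine hgM x hx (of_line S hNT B.qz ha0 ?_ hu (hgK _) e)
        have e2 := S.iso _ (hgK x) (T u) (T u)
        rw [e, S.hs.smul_left, S.hs.smul_right, aa S B, mul_zero, mul_zero, S.hT, OSimFour.self_eq S.D] at e2
        exact (mul_eq_zero.mp (Subtype.ext e2.symm : (2 : F₀) * Q u = 0)).resolve_left S.D.h2
      by_cases hd : ⟪c, a⟫ = 0
      · refine ⟨c, fun p h => (hz p h).1, hd, fun e => hTa0 ?_⟩
        rw [e, T_zero S, zero_add, Matrix.mulVec_smul] at hgz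
        have := hiso (u := c') (κ := θ⁻¹) (by rw [← hgz, smul_smul, inv_mul_cancel₀ S.theta0, one_smul])
        rw [← hgz, this, T_zero S, Matrix.mulVec_zero, smul_zero]
      · refine ⟨⟪c', a⟫ • c - ⟪c, a⟫ • c', fun p h => by
          rw [OSimFour.sub_right S.D, OSimFour.smul_right S.D, OSimFour.smul_right S.D, (hz p h).1, (hz p h).2]; ring,
          by rw [OSimFour.sub_left S.D, OSimFour.smul_left S.D, OSimFour.smul_left S.D]; ring, fun e => hd ?_⟩
        obtain ⟨k, hk⟩ : ∃ k, c' = k • c := ⟨(⟪c, a⟫)⁻¹ * ⟪c', a⟫, by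
          rw [← smul_smul, sub_eq_zero.mp e, smul_smul, inv_mul_cancel₀ hd, one_smul]⟩
        have hκ : 1 + θ * (k : F) ≠ 0 := fun e' => hTa0 (by
          rw [← hgz, hk, S.T_smul, smul_smul, ← one_smul F (T c), smul_smul, mul_one, ← add_smul, e', zero_smul,
            Matrix.mulVec_zero])
        have := hiso (u := c) (κ := (1 + θ * (k : F))⁻¹) (by
          rw [← hgz, hk, S.T_smul, smul_smul, Matrix.mulVec_add, Matrix.mulVec_smul]
          rw [show (g x : Matrix ι ι F) *ᵥ T c + (θ * (k : F)) • ((g x : Matrix ι ι F) *ᵥ T c) =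
            (1 + θ * (k : F)) • ((g x : Matrix ι ι F) *ᵥ T c) by module, smul_smul, inv_mul_cancel₀ hκ, one_smul])
        rw [this, OSimFour.zero_left S.D]
    have hlin : ∀ p, ⟪r p, L⟫ = ⟪b, L⟫ + p.1 * ⟪m, L⟫ + p.2 * ⟪n, L⟫ := fun p => by
      simp only [r, pm, OSimFour.sub_left S.D, OSimFour.add_left S.D, OSimFour.smul_left S.D, OSimFour.symm S.D a L, hLa]
      ring
    by_cases hm : ⟪m, L⟫ = 0
    · by_cases hn : ⟪n, L⟫ = 0
      · have : IsEmpty {p : F₀ × F₀ // f ((g x : Matrix ι ι F) *ᵥ T (r p)) (T a) = 0} := ⟨fun p => hL0 (by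
          have h := hL p.1 p.2
          rw [hlin, hm, hn, mul_zero, mul_zero, add_zero, add_zero] at h
          rw [B.expand L, OSimFour.symm S.D L b, h, hLa, OSimFour.symm S.D L m, hm, OSimFour.symm S.D L n, hn]
          simp)⟩
        rw [Nat.card_of_isEmpty]; exact Nat.zero_le _
      · refine le_trans (Nat.card_le_card_of_injective (fun p => p.1.1) fun p p' e => Subtype.ext (Prod.ext e ?_))
          (le_of_eq Nat.card_eq_fintype_card)
        have h := hL p.1 p.2
        have h' := hL p'.1 p'.2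
        rw [hlin] at h h'
        exact mul_right_cancel₀ hn (by linear_combination h - h' - (e : p.1.1 = p'.1.1) * ⟪m, L⟫)
    · refine le_trans (Nat.card_le_card_of_injective (fun p => p.1.2) fun p p' e => Subtype.ext (Prod.ext ?_ e))
        (le_of_eq Nat.card_eq_fintype_card)
      have h := hL p.1 p.2
      have h' := hL p'.1 p'.2
      rw [hlin] at h h'
      exact mul_right_cancel₀ hm (by linear_combination h - h' - (e : p.1.2 = p'.1.2) * ⟪n, L⟫)
  -- lower bound
  let Y := {x : K ⧸ M.subgroupOf K // x ≠ ((1 : K) : K ⧸ M.subgroupOf K)}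
  let e : P ≃ Σ x : Y, {p : F₀ × F₀ // f ((g x.1 : Matrix ι ι F) *ᵥ T (r p)) (T a) ≠ 0} :=
    { toFun := fun z => ⟨⟨z.1.1, z.2.1⟩, ⟨z.1.2, z.2.2⟩⟩
      invFun := fun z => ⟨(z.1.1, z.2.1), z.1.2, z.2.2⟩
      left_inv := fun _ => rfl
      right_inv := fun _ => rfl }
  have hY : Nat.card Y = Nat.card (K ⧸ M.subgroupOf K) - 1 := by
    simp only [Y, Nat.card_eq_fintype_card, Fintype.card_subtype_compl, Fintype.card_subtype_eq]
  have hlow : Nat.card Y * (Fintype.card F₀ ^ 2 - Fintype.card F₀) ≤ Nat.card P := by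
    rw [Nat.card_congr e, Nat.card_sigma, Nat.card_eq_fintype_card (α := Y), ← Finset.card_univ, ← smul_eq_mul,
      ← Finset.sum_const]
    refine Finset.sum_le_sum fun x _ => ?_
    have h := hbad x.1 x.2
    have h2 := Nat.card_congr (Equiv.sumCompl fun p : F₀ × F₀ => f ((g x.1 : Matrix ι ι F) *ᵥ T (r p)) (T a) = 0)
    rw [Nat.card_sum, Nat.card_prod, Nat.card_eq_fintype_card (α := F₀), ← sq] at h2
    simp only [ne_eq]
    omega
  rw [← hY]
  exact hlow.trans (hup.trans (le_of_eq (by rw [hF]; ring)))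

end Cfsg.Agent.Classical.UOFour
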