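/-
One transvection with a real centre gives all transvections.
-/
import Cfsg.Agent.Lib.Classical.UOFour.Stab

set_option autoImplicit false
set_option linter.unusedSectionVars false
set_option linter.style.haveILetI false

namespace Cfsg.Agent.Classical.UOFour

open Matrix Cfsg.Geo
open Cfsg.Agent.Classical

variable {ι : Type} [Fintype ι] [DecidableEq ι] {F : Type*} [Field F] {F₀ : Subfield F} [Fintype F₀] {σ : F ≃+* F}
  {θ : F} {f : (ι → F) → (ι → F) → F} {T : (ι → F₀) → ι → F} {Q : (ι → F₀) → F₀} {M K : Subgroup (GL ι F)}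

/-- The polar form. -/
local notation "⟪" x ", " y "⟫" => QuadraticMap.polar Q x y

variable (S : Setup σ θ f T Q M K)

include S

theorem Ctr.of_conj {v : ι → F} {y : GL ι F} (hy : y ∈ K) (h : Ctr σ f K ((y : Matrix ι ι F) *ᵥ v)) :
    Ctr σ f K v := by
  intro hiso c hc g hg
  have := h (by rw [S.iso y hy]; exact hiso) c hc (y * g * y⁻¹) fun x => by
    rw [gl_mul_mulVec, gl_mul_mulVec, hg, Matrix.mulVec_add, gl_mulVec_inv_cancel, Matrix.mulVec_smul,
      conj_iso S hy]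
  have e : g = y⁻¹ * (y * g * y⁻¹) * y := by group
  rw [e]
  exact mul_mem (mul_mem (inv_mem hy) this) hy

theorem Ctr.smul {v : ι → F} (h : Ctr σ f K v) {l : F} (hl : l ≠ 0) : Ctr σ f K (l • v) := by
  intro hiso c hc g hg
  refine h ?_ (c * l * σ l) ?_ g fun x => ?_
  · rw [S.hs.smul_left, S.hs.smul_right] at hiso
    exact (mul_eq_zero.mp ((mul_eq_zero.mp hiso).resolve_left hl)).resolve_left ((map_ne_zero σ).mpr hl)
  · rw [map_mul, map_mul, S.inv]; linear_combination (l * σ l) * hc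
  · rw [hg, S.hs.smul_right, smul_smul]; congr 2; ring

theorem ctr_zero : Ctr σ f K 0 := fun _ c _ g hg => by
  rw [show g = 1 from gl_ext_mulVec fun x => by simp [hg x]]
  exact one_mem K

/-- A transvection gives its whole root group. -/
theorem ctr_of_tr {a : ι → F₀} (ha : Q a = 0) (ha0 : a ≠ 0) {g : GL ι F} (hg : g ∈ K) {c : F} (hc0 : c ≠ 0)
    (hc : c + σ c = 0) (ht : Tr f g (T a) c) : Ctr σ f K (T a) := by
  obtain ⟨b, m, n, B⟩ := OSimFour.exists_basis S.D ha ha0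
  have hsq : ∀ α : F₀, ∃ h ∈ K, Tr f h (T a) (c * ((α * α : F₀) : F)) := by
    intro α
    by_cases hα : α = 0
    · exact ⟨1, one_mem K, fun x => by simp [hα]⟩
    obtain ⟨t, ⟨htM, hta, -⟩, -, -, -⟩ := exists_tor S B hα
    refine ⟨t * g * t⁻¹, mul_mem (mul_mem (S.le htM) hg) (inv_mem (S.le htM)), fun x => ?_⟩
    rw [gl_mul_mulVec, gl_mul_mulVec, ht, Matrix.mulVec_add, gl_mulVec_inv_cancel, Matrix.mulVec_smul,
      conj_iso S (S.le htM), hta, S.hs.smul_right, S.fix, smul_smul, Subfield.coe_mul]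
    congr 2; ring
  intro _ c' hc' h hh
  obtain ⟨u, hu⟩ := skew_eq S hc
  obtain ⟨u', hu'⟩ := skew_eq S hc'
  have hu0 : u ≠ 0 := fun e => hc0 (by rw [hu, e]; simp)
  obtain ⟨s, r, hsr⟩ := OSimFour.two_sq S.D (α := (1 : F₀)) one_ne_zero (u' / u)
  obtain ⟨h1, hh1, ht1⟩ := hsq s
  obtain ⟨h2, hh2, ht2⟩ := hsq r
  have key : c * ((r * r : F₀) : F) + c * ((s * s : F₀) : F) = c' := by
    rw [← mul_add, ← Subfield.coe_add, show r * r + s * s = u' / u by rw [← hsr]; ring, hu, hu', mul_assoc,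
      ← Subfield.coe_mul, mul_div_cancel₀ _ hu0]
  have e : h = h1 * h2 := gl_ext_mulVec fun x => by
    rw [gl_mul_mulVec, hh, ht2, ht1, S.hs.add_left, S.hs.smul_left, aa S B, mul_zero, add_zero, ← key]
    module
  rw [e]
  exact mul_mem hh1 hh2

/-- All transvections. -/
theorem all_ctr {a : ι → F₀} (ha : Q a = 0) (ha0 : a ≠ 0) (hC : Ctr σ f K (T a)) (v : ι → F) : Ctr σ f K v := by
  obtain ⟨ν, hν⟩ := exists_nu S
  have hν0 : ν ≠ 0 := fun e => by
    rw [e, Subfield.coe_zero, mul_self_eq_zero] at hν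
    exact S.theta0 hν
  have hreal : ∀ x, Q x = 0 → Ctr σ f K (T x) := by
    intro x hx
    by_cases hx0 : x = 0
    · rw [hx0, T_zero S]; exact ctr_zero S
    obtain ⟨k, hk, hka⟩ := exists_real_move S hx hx0 ha ha0
    exact Ctr.of_conj S (S.le hk) (by rw [hka]; exact hC)
  have hmove : ∀ (y y' x : ι → F₀) (r : F₀), Q x = 0 →
      Ctr σ f K (T (y + (ν * r * ⟪y', x⟫) • x) + θ • T (y' + (r * ⟪y, x⟫) • x)) →
      Ctr σ f K (T y + θ • T y') := by
    intro y y' x r hx h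
    have hxx : f (T x) (T x) = 0 := f_T_T S (OSimFour.self_zero S.D hx)
    have hc : θ * (r : F) + σ (θ * r) = 0 := by rw [map_mul, S.theta, S.fix]; ring
    obtain ⟨k, hk⟩ := S.trans (T x) (θ * r) hxx hc
    refine Ctr.of_conj S (hreal x hx hxx _ hc k hk) ?_
    rw [hk, S.hs.add_left, S.hs.smul_left, S.hT, S.hT]
    convert h using 1
    simp only [S.T_add, S.T_smul, Subfield.coe_mul, ← hν]
    module
  have hline : ∀ (l : F) (x : ι → F₀), Ctr σ f K (l • T x) := by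
    intro l x
    by_cases hl : l = 0
    · rw [hl, zero_smul]; exact ctr_zero S
    intro hiso
    refine Ctr.smul S (hreal x ?_) hl hiso
    rw [S.hs.smul_left, S.hs.smul_right, S.hT] at hiso
    have h1 : ⟪x, x⟫ = 0 :=
      Subtype.ext ((mul_eq_zero.mp ((mul_eq_zero.mp hiso).resolve_left hl)).resolve_left ((map_ne_zero σ).mpr hl))
    rw [OSimFour.self_eq S.D] at h1
    exact (mul_eq_zero.mp h1).resolve_left S.D.h2
  have hdep : ∀ y y' : ι → F₀, (y = 0 ∨ ∃ c : F₀, y' = c • y) → Ctr σ f K (T y + θ • T y') := by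
    intro y y' h
    rcases h with rfl | ⟨c, rfl⟩
    · rw [T_zero S, zero_add]; exact hline θ y'
    · rw [S.T_smul, smul_smul, ← one_smul F (T y), smul_smul, mul_one, ← add_smul]; exact hline _ y
  have hts : ∀ y y', Q y = 0 → Q y' = 0 → ⟪y, y'⟫ ≠ 0 → Ctr σ f K (T y + θ • T y') := by
    intro y y' hy hy' he
    refine hmove y y' y' (-(⟪y, y'⟫)⁻¹) hy' ?_
    rw [OSimFour.self_zero S.D hy', mul_zero, zero_smul, add_zero, neg_mul, inv_mul_cancel₀ he, neg_one_smul,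
      add_neg_cancel, T_zero S, smul_zero, add_zero]
    exact hreal y hy
  have hiso2 : ∀ y y', Q y = 0 → Q y' = 0 → Ctr σ f K (T y + θ • T y') := by
    intro y y' hy hy'
    by_cases he : ⟪y, y'⟫ = 0
    swap
    · exact hts y y' hy hy' he
    by_cases hd : y = 0 ∨ ∃ c : F₀, y' = c • y
    · exact hdep y y' hd
    push Not at hd
    obtain ⟨x, hxs, hxy⟩ := OSimFour.exists_sep S.D (s := ![y']) (a := y) fun hm => by
      obtain ⟨c, hc⟩ := OSimFour.mem_span1 S.D hm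
      have hc0 : c ≠ 0 := fun e => hd.1 (by rw [hc, e, zero_smul])
      exact hd.2 c⁻¹ (by rw [hc, smul_smul, inv_mul_cancel₀ hc0, one_smul])
    obtain ⟨x', hx'⟩ : ∃ x', x' = x + (-Q x) • y := ⟨_, rfl⟩
    have hQx' : Q x' = 0 := by
      rw [hx', OSimFour.quad_sum S.D, OSimFour.quad_smul S.D, hy, OSimFour.smul_right S.D, hxy]; ring
    have hxy' : ⟪y', x'⟫ = 0 := by
      rw [hx', OSimFour.add_right S.D, OSimFour.smul_right S.D, OSimFour.symm S.D y' x, show ⟪x, y'⟫ = 0 from hxs 0,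
        OSimFour.symm S.D y' y, he]; ring
    have hxy1 : ⟪y, x'⟫ = 1 := by
      rw [hx', OSimFour.add_right S.D, OSimFour.smul_right S.D, OSimFour.symm S.D y x, hxy,
        OSimFour.self_zero S.D hy]; ring
    refine hmove y y' x' 1 hQx' ?_
    rw [hxy1, hxy', mul_zero, zero_smul, add_zero, one_mul, one_smul]
    refine hts _ _ hy (by rw [OSimFour.quad_sum S.D, hy', hQx', hxy', add_zero, add_zero]) ?_
    rw [OSimFour.add_right S.D, he, hxy1, zero_add]
    exact one_ne_zero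
  obtain ⟨y, y', rfl⟩ := S.T_dec v
  by_cases hd : y = 0 ∨ ∃ c : F₀, y' = c • y
  · exact hdep y y' hd
  push Not at hd
  intro hiso
  have hrel : ∀ y y', f (T y + θ • T y') (T y + θ • T y') = 0 → Q y = ν * Q y' := fun y y' h => by
    rw [S.hs.add_left, S.hs.add_right, S.hs.add_right, S.hs.smul_left, S.hs.smul_left, S.hs.smul_right,
      S.hs.smul_right, S.hT, S.hT, S.hT, S.hT, S.theta, OSimFour.self_eq S.D, OSimFour.self_eq S.D,
      OSimFour.symm S.D y' y] at h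
    refine mul_left_cancel₀ S.D.h2 (Subtype.ext ?_)
    simp only [Subfield.coe_mul] at h ⊢
    rw [← hν]
    linear_combination h
  -- an isotropic vector seeing both parts
  have one : ∀ z : ι → F₀, z ≠ 0 → ∃ x, Q x = 0 ∧ ⟪z, x⟫ ≠ 0 := by
    intro z hz
    by_contra hcon
    push Not at hcon
    obtain ⟨b, m, n, B⟩ := OSimFour.exists_basis S.D ha ha0
    have h1 := hcon a B.qz
    have h2 := hcon b B.qz'
    have h3 : ∀ w, ⟪a, w⟫ = 0 → ⟪b, w⟫ = 0 → ⟪z, w⟫ = 0 := fun w haw hbw => by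
      have h := hcon (b + w + (-Q w) • a) (by
        rw [OSimFour.quad_sum S.D, OSimFour.quad_sum S.D, OSimFour.quad_smul S.D, B.qz, B.qz', hbw,
          OSimFour.smul_right S.D, OSimFour.add_left S.D, OSimFour.symm S.D b a, B.zz, OSimFour.symm S.D w a, haw]
        ring)
      rw [OSimFour.add_right S.D, OSimFour.add_right S.D, OSimFour.smul_right S.D, h1, h2] at h
      linear_combination h
    exact hz (by rw [B.expand z, h1, h2, h3 m B.zm B.z'm, h3 n B.zn B.z'n]; simp)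
  have hy'0 : y' ≠ 0 := fun e => hd.2 0 (by rw [e, zero_smul])
  obtain ⟨x, hx, hxy, hxy'⟩ : ∃ x, Q x = 0 ∧ ⟪y, x⟫ ≠ 0 ∧ ⟪y', x⟫ ≠ 0 := by
    obtain ⟨x, hx, hxy⟩ := one y hd.1
    obtain ⟨x', hx', hxy'⟩ := one y' hy'0
    by_cases h1 : ⟪y', x⟫ = 0
    swap
    · exact ⟨x, hx, hxy, h1⟩
    by_cases h2 : ⟪y, x'⟫ = 0
    swap
    · exact ⟨x', hx', h2, hxy'⟩
    by_cases hxx : ⟪x, x'⟫ = 0
    · exact ⟨x + x', by rw [OSimFour.quad_sum S.D, hx, hx', hxx]; ring,
        by rw [OSimFour.add_right S.D, h2, add_zero]; exact hxy,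
        by rw [OSimFour.add_right S.D, h1, zero_add]; exact hxy'⟩
    obtain ⟨p, hp⟩ : ∃ p, p = (⟪x, x'⟫)⁻¹ • x' := ⟨_, rfl⟩
    have hQp : Q p = 0 := by rw [hp, OSimFour.quad_smul S.D, hx', mul_zero]
    have hxp : ⟪x, p⟫ = 1 := by rw [hp, OSimFour.smul_right S.D, inv_mul_cancel₀ hxx]
    have hx0 : x ≠ 0 := fun e => hxx (by rw [e, OSimFour.zero_left S.D])
    obtain ⟨z, hz, hzq⟩ : ∃ z, (⟪x, z⟫ = 0 ∧ ⟪p, z⟫ = 0) ∧ Q z ≠ 0 := by
      obtain ⟨w, hwQ, hw⟩ := OSimFour.exists_aniso S.D (k := 1) ![x] (by rw [S.D.hn]; norm_num)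
      obtain ⟨z, hz⟩ : ∃ z, z = w + (-⟪w, p⟫) • x := ⟨_, rfl⟩
      refine ⟨z, ⟨?_, ?_⟩, ?_⟩
      · rw [hz, OSimFour.add_right S.D, OSimFour.smul_right S.D, OSimFour.symm S.D x w, show ⟪w, x⟫ = 0 from hw 0,
          OSimFour.self_zero S.D hx]; ring
      · rw [hz, OSimFour.add_right S.D, OSimFour.smul_right S.D, OSimFour.symm S.D p w, OSimFour.symm S.D p x, hxp]; ring
      · rw [hz, OSimFour.quad_sum S.D, OSimFour.quad_smul S.D, hx, OSimFour.smul_right S.D, show ⟪w, x⟫ = 0 from hw 0]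
        simpa using hwQ
    have hpy : ⟪y, p⟫ = 0 := by rw [hp, OSimFour.smul_right S.D, h2, mul_zero]
    have hpy' : ⟪y', p⟫ ≠ 0 := by
      rw [hp, OSimFour.smul_right S.D]; exact mul_ne_zero (inv_ne_zero hxx) hxy'
    obtain ⟨s, hs0, hs1, hs2⟩ : ∃ s : F₀, s ≠ 0 ∧ ⟪y, x⟫ + s * ⟪y, z⟫ ≠ 0 ∧
        ⟪y', z⟫ - s * Q z * ⟪y', p⟫ ≠ 0 := by
      classical
      by_contra hcon
      push Not at hcon
      have hsub : (Finset.univ : Finset F₀) ⊆ {0, -⟪y, x⟫ / ⟪y, z⟫, ⟪y', z⟫ / (Q z * ⟪y', p⟫)} := fun s _ => by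
        simp only [Finset.mem_insert, Finset.mem_singleton]
        by_cases hs : s = 0
        · exact Or.inl hs
        by_cases h3 : ⟪y, x⟫ + s * ⟪y, z⟫ = 0
        · have h4 : ⟪y, z⟫ ≠ 0 := fun e => hxy (by linear_combination h3 - s * e)
          exact Or.inr (Or.inl (by rw [eq_div_iff h4]; linear_combination h3))
        · exact Or.inr (Or.inr (by rw [eq_div_iff (mul_ne_zero hzq hpy')]; linear_combination -(hcon s hs h3)))
      have h5 := Finset.card_le_card hsub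
      rw [Finset.card_univ] at h5
      have h6 : Finset.card ({0, -⟪y, x⟫ / ⟪y, z⟫, ⟪y', z⟫ / (Q z * ⟪y', p⟫)} : Finset F₀) ≤ 3 := Finset.card_le_three
      have := S.five
      omega
    refine ⟨x + s • z + (-(s ^ 2 * Q z)) • p, ?_, ?_, ?_⟩
    · simp only [OSimFour.quad_sum S.D, OSimFour.quad_smul S.D, OSimFour.smul_right S.D, OSimFour.add_left S.D,
        OSimFour.smul_left S.D, hx, hQp, hxp, hz.1, OSimFour.symm S.D z p, hz.2]
      ring
    · rw [OSimFour.add_right S.D, OSimFour.add_right S.D, OSimFour.smul_right S.D, OSimFour.smul_right S.D, hpy,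
        mul_zero, add_zero]
      exact hs1
    · rw [OSimFour.add_right S.D, OSimFour.add_right S.D, OSimFour.smul_right S.D, OSimFour.smul_right S.D, h1,
        zero_add, show s * ⟪y', z⟫ + -(s ^ 2 * Q z) * ⟪y', p⟫ = s * (⟪y', z⟫ - s * Q z * ⟪y', p⟫) by ring]
      exact mul_ne_zero hs0 hs2
  refine hmove y y' x (-Q y * (ν * ⟪y', x⟫ * ⟪y, x⟫)⁻¹) hx ?_ hiso
  have hy1 : Q (y + (ν * (-Q y * (ν * ⟪y', x⟫ * ⟪y, x⟫)⁻¹) * ⟪y', x⟫) • x) = 0 := by
    rw [OSimFour.quad_sum S.D, OSimFour.quad_smul S.D, hx, OSimFour.smul_right S.D]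
    field_simp
    ring
  intro hiso1
  have h1 := hrel _ _ hiso1
  rw [hy1] at h1
  exact hiso2 _ _ hy1 ((mul_eq_zero.mp h1.symm).resolve_left hν0) hiso1

end Cfsg.Agent.Classical.UOFour
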