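/-
The orthogonal subgroups are maximal in the four-dimensional special unitary group for odd `q ≥ 5`.
-/
import Cfsg.Agent.Lib.Classical.UOFour.Count
import Cfsg.Agent.Lib.Classical.UOFour.Arith
import Cfsg.Agent.Lib.Classical.UOFour.Spread
import Cfsg.Agent.Lib.Classical.OSimFour.Count
import Cfsg.Agent.Lib.Classical.UnitaryOvergroup
import Cfsg.Agent.Lib.Classical.UnitaryMembers
import Cfsg.Agent.Lib.Classical.UnitarySmallDim
import Cfsg.Agent.Lib.Classical.UnitaryOrders
import Cfsg.Agent.Lib.Classical.FormPower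

set_option autoImplicit false
set_option linter.unusedSectionVars false
set_option linter.style.haveILetI false

namespace Cfsg.Agent.Classical.UOFour

open Matrix Cfsg.Geo
open Cfsg.Agent.Classical

variable {F : Type*} [Field F] [Fintype F] {q : ℕ} {σ : F ≃+* F} {F₀ : Subfield F}

theorem card_suGL (hσ : IsUSigma q σ) :
    Nat.card (suGL 4 F q) = q ^ 6 * ((q ^ 2 - 1) * (q ^ 3 + 1) * (q ^ 4 - 1)) := by
  have e : Nat.card (suGL 4 F q) = Nat.card (Cfsg.SU 4 F q) := by
    refine (Nat.card_congr ?_).trans (Nat.card_congr (UCount.suEquiv hσ 4).toEquiv)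
    exact
      { toFun := fun g => ⟨⟨g.1, g.2.1⟩, MonoidHom.mem_ker.mpr (Subtype.ext (MonoidHom.mem_ker.mp g.2.2))⟩
        invFun := fun g => ⟨g.1.1, g.1.2, MonoidHom.mem_ker.mpr
          (congrArg Subtype.val (MonoidHom.mem_ker.mp g.2))⟩
        left_inv := fun g => rfl
        right_inv := fun g => rfl }
  refine Nat.eq_of_mul_eq_mul_left (show 0 < q + 1 by omega) ?_
  rw [e, UCount.card_SU hσ (by norm_num), UCount.card_GU hσ 4]
  simp [Finset.prod_range_succ, Nat.even_iff]
  ring

theorem isMaximal (hσ : IsUSigma q σ) (hq5 : 5 ≤ q) (hcard : Fintype.card F = Nat.card F₀ ^ 2) (h2 : (2 : F) ≠ 0)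
    (P : GL (Fin 4) F) (hP : IsFormRationalStructure (hermForm 4 F q) F₀ 1 P) :
    IsMaximalIn (suGL 4 F q) (subfieldSubgroup F₀ P ⊓ suGL 4 F q) := by
  classical
  refine ⟨lt_of_le_of_ne inf_le_right fun e =>
      hσ.not_su_le_subfield_three (by norm_num) Nat.prime_two hcard P (inf_eq_right.mp e),
    fun K hK hKS => or_iff_not_imp_left.mpr fun hne => le_antisymm hKS ?_⟩
  haveI : Fintype F₀ := Fintype.ofFinite F₀
  have hh := hσ.isUnitaryForm (n := 4)
  have hs := semiForm_of_unitary hh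
  have hq0 : Nat.card F₀ = q := by
    have h := hcard
    rw [hσ.card] at h
    exact (Nat.pow_left_injective two_ne_zero h).symm
  have hfix : ∀ x ∈ F₀, σ x = x := fun x hx => by
    have h := congrArg Subtype.val (FiniteField.pow_card (⟨x, hx⟩ : F₀))
    rw [← Nat.card_eq_fintype_card, hq0] at h
    rw [hσ.apply_eq]
    exact h
  obtain ⟨θ0, hθ0⟩ : ∃ x : F, σ x ≠ x := by
    by_contra hcon
    push Not at hcon
    exact hσ.ne_refl (RingEquiv.ext hcon)
  obtain ⟨θ, hθdef⟩ : ∃ θ, θ = θ0 - σ θ0 := ⟨_, rfl⟩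
  have hθne : θ ≠ 0 := fun e => hθ0 (sub_eq_zero.mp (hθdef.symm.trans e)).symm
  have hσθ : σ θ = -θ := by rw [hθdef, map_sub, hσ.involutive, neg_sub]
  have hdec : ∀ x : F, ∃ a b : F₀, x = (a : F) + θ * b := by
    let Θ : F₀ × F₀ → F := fun p => (p.1 : F) + θ * p.2
    have hinj : Function.Injective Θ := by
      rintro ⟨a, b⟩ ⟨c, d⟩ h
      simp only [Θ] at h
      have h' := congrArg σ h
      rw [map_add, map_add, map_mul, map_mul, hfix _ a.2, hfix _ b.2, hfix _ c.2, hfix _ d.2, hσθ] at h'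
      have hbd : (b : F) = d := by
        have : (2 * θ) * ((b : F) - d) = 0 := by linear_combination h - h'
        exact sub_eq_zero.mp ((mul_eq_zero.mp this).resolve_left (mul_ne_zero h2 hθne))
      refine Prod.ext (Subtype.ext ?_) (Subtype.ext hbd)
      rw [hbd] at h
      exact add_right_cancel h
    have hsurj : Function.Surjective Θ := (hinj.bijective_of_nat_card_le (by
      rw [Nat.card_prod, Nat.card_eq_fintype_card (α := F), hcard, sq])).2
    intro x
    obtain ⟨⟨a, b⟩, h⟩ := hsurj x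
    exact ⟨a, b, h.symm⟩
  let T : (Fin 4 → F₀) → Fin 4 → F := fun u => (P : Matrix (Fin 4) (Fin 4) F) *ᵥ fun i => (u i : F)
  have hTadd : ∀ u w, T (u + w) = T u + T w := fun u w => by
    simp only [T]
    rw [← Matrix.mulVec_add]
    congr 1
  have hTsmul : ∀ (c : F₀) u, T (c • u) = (c : F) • T u := fun c u => by
    simp only [T]
    rw [← Matrix.mulVec_smul]
    congr 1
  have hTdec : ∀ v : Fin 4 → F, ∃ u u', v = T u + θ • T u' := fun v => by
    choose u u' h using fun i => hdec ((((P⁻¹ : GL (Fin 4) F) : Matrix (Fin 4) (Fin 4) F) *ᵥ v) i)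
    refine ⟨u, u', ?_⟩
    simp only [T]
    rw [← Matrix.mulVec_smul, ← Matrix.mulVec_add]
    refine (gl_mulVec_inv_cancel P v).symm.trans ?_
    congr 1
    exact funext fun i => h i
  have hmem : ∀ u w, hermForm 4 F q (T u) (T w) ∈ F₀ := fun u w => by
    simpa [T] using hP _ _ (fun i => (u i).2) fun i => (w i).2
  let Q : (Fin 4 → F₀) → F₀ := fun u =>
    ⟨(2 : F)⁻¹ * hermForm 4 F q (T u) (T u), mul_mem (inv_mem (by
      rw [← one_add_one_eq_two]; exact add_mem (one_mem _) (one_mem _))) (hmem u u)⟩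
  have hpol : ∀ u w, ((QuadraticMap.polar Q u w : F₀) : F) = hermForm 4 F q (T u) (T w) := fun u w => by
    have hsy : hermForm 4 F q (T w) (T u) = hermForm 4 F q (T u) (T w) := by
      rw [hh.herm, hfix _ (hmem u w)]
    simp only [QuadraticMap.polar, Q, Subfield.coe_sub, hTadd, hs.add_left, hs.add_right, hsy]
    field_simp
    ring
  have hT1 : ∀ i, T (Pi.single i 1) = (P : Matrix (Fin 4) (Fin 4) F) *ᵥ Pi.single i 1 := fun i => by
    simp only [T]
    congr 1
    funext j
    by_cases hj : j = i <;> simp [hj]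
  have D : OSimFour.Data Q := by
    refine ⟨⟨fun c v => Subtype.ext ?_, ⟨fun x y v => Subtype.ext ?_, fun c x v => Subtype.ext ?_,
      fun v x y => Subtype.ext ?_, fun c v x => Subtype.ext ?_⟩, fun v hv => ?_⟩, fun e => h2 ?_, ?_⟩
    · simp only [Q, hTsmul, hs.smul_left, hs.smul_right, hfix _ c.2, Subfield.coe_mul, SubmonoidClass.coe_pow]
      ring
    · rw [Subfield.coe_add, hpol, hpol, hpol, hTadd, hs.add_left]
    · rw [Subfield.coe_mul, hpol, hpol, hTsmul, hs.smul_left]
    · rw [Subfield.coe_add, hpol, hpol, hpol, hTadd, hs.add_right]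
    · rw [Subfield.coe_mul, hpol, hpol, hTsmul, hs.smul_right, hfix _ c.2]
    · obtain ⟨x, hx⟩ : ∃ x, hermForm 4 F q (T x) (T v) ≠ 0 := by
        by_contra hcon
        push Not at hcon
        have hv0 : T v ≠ 0 := fun e =>
          hv (funext fun i => Subtype.ext (congrFun (gl_mulVec_injective P (e.trans (Matrix.mulVec_zero _).symm)) i))
        obtain ⟨y, hy⟩ := (hh.nondegenerate _ hv0).1
        obtain ⟨u, u', rfl⟩ := hTdec y
        exact hy (by rw [hs.add_left, hs.smul_left, hcon, hcon, mul_zero, add_zero])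
      refine ⟨⟨x, fun e => hx ?_⟩, ⟨x, fun e => hx ?_⟩⟩
      · rw [← hpol, e]; rfl
      · rw [← hpol, QuadraticMap.polar_comm, e]; rfl
    · exact (map_ofNat F₀.subtype 2).symm.trans ((congrArg F₀.subtype e).trans (map_zero _))
    · rw [Fintype.card_fin]
  let φ : GL (Fin 4) F₀ →* GL (Fin 4) F :=
    (MulAut.conj P).toMonoidHom.comp (Matrix.GeneralLinearGroup.map (F₀.subtype : F₀ →+* F))
  have hφ : ∀ A u, ((φ A : GL (Fin 4) F) : Matrix (Fin 4) (Fin 4) F) *ᵥ T u =
      T ((A : Matrix (Fin 4) (Fin 4) F₀) *ᵥ u) := fun A u => by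
    change ((P * Matrix.GeneralLinearGroup.map (F₀.subtype : F₀ →+* F) A * P⁻¹ : GL (Fin 4) F) :
      Matrix (Fin 4) (Fin 4) F) *ᵥ _ = _
    simp only [T]
    rw [gl_mul_mulVec, gl_mul_mulVec, gl_inv_mulVec_cancel]
    refine congrArg _ (funext fun i => ?_)
    exact (RingHom.map_mulVec (F₀.subtype : F₀ →+* F) (A : Matrix (Fin 4) (Fin 4) F₀) u i).symm
  have hiso : ∀ k ∈ K, ∀ x y, hermForm 4 F q ((k : Matrix (Fin 4) (Fin 4) F) *ᵥ x)
      ((k : Matrix (Fin 4) (Fin 4) F) *ᵥ y) = hermForm 4 F q x y := fun k hk x y => mem_GU_iff.mp (hKS hk).1 x y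
  have hcol : ∀ (k : GL (Fin 4) F) (l : F), (∀ x, ∃ y, l • ((k : Matrix (Fin 4) (Fin 4) F) *ᵥ T x) = T y) →
      ∀ i j, l * ((P⁻¹ * k * P : GL (Fin 4) F) : Matrix (Fin 4) (Fin 4) F) i j ∈ F₀ := by
    intro k l h i j
    obtain ⟨w, hw⟩ := h (Pi.single j 1)
    rw [hT1] at hw
    have h2' : l • (((P⁻¹ * k * P : GL (Fin 4) F) : Matrix (Fin 4) (Fin 4) F) *ᵥ Pi.single j 1) =
        fun k => (w k : F) := by
      rw [gl_mul_mulVec, gl_mul_mulVec, ← Matrix.mulVec_smul, hw, gl_inv_mulVec_cancel]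
    have h := congrFun h2' i
    rw [Pi.smul_apply, Matrix.mulVec_single_one, Matrix.col_apply, smul_eq_mul] at h
    rw [h]
    exact (w i).2
  have S : Setup σ θ (hermForm 4 F q) T Q (subfieldSubgroup F₀ P ⊓ suGL 4 F q) K :=
    { D := D
      five := by rwa [← Nat.card_eq_fintype_card, hq0]
      hs := hs
      herm := hh.herm
      inv := hσ.involutive
      theta := hσθ
      theta0 := hθne
      two := h2
      fix := fun x => hfix _ x.2
      dec := hdec
      T_add := hTadd
      T_smul := hTsmul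
      T_dec := hTdec
      hT := fun u w => (hpol u w).symm
      mem_M := fun g hg l hl h => ⟨mem_subfieldSubgroup_of_scaled hl (hcol g l h), hKS hg⟩
      of_M := fun g hg => by
        have hcomm : ∀ (c : Fˣ) (h : GL (Fin 4) F),
            scalarGL (Fin 4) F c * h = h * scalarGL (Fin 4) F c := fun c h => Units.ext (by
          rw [Units.val_mul, Units.val_mul, scalarGL_coe, Matrix.smul_mul, Matrix.one_mul, Matrix.mul_smul,
            Matrix.mul_one])
        haveI : (scalars (Fin 4) F).Normal := ⟨fun z hz h => by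
          obtain ⟨c, rfl⟩ : ∃ c, scalarGL (Fin 4) F c = z := hz
          rw [← hcomm c h, mul_assoc, mul_inv_cancel, mul_one]
          exact scalarGL_mem c⟩
        obtain ⟨x, ⟨A, rfl⟩, y, hy, hxy⟩ := Subgroup.mem_sup_of_normal_right.mp (mem_subfieldSubgroup.mp hg.1)
        obtain ⟨c, rfl⟩ : ∃ c, scalarGL (Fin 4) F c = y := hy
        have e : g = φ A * scalarGL (Fin 4) F c := by
          change g = P * Matrix.GeneralLinearGroup.map (F₀.subtype : F₀ →+* F) A * P⁻¹ * scalarGL (Fin 4) F c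
          rw [mul_assoc _ P⁻¹, ← hcomm c P⁻¹, ← mul_assoc, mul_assoc P, hxy]
          group
        refine ⟨((c⁻¹ : Fˣ) : F), Units.ne_zero _, fun z => ⟨(A : Matrix (Fin 4) (Fin 4) F₀) *ᵥ z, ?_⟩⟩
        rw [e, gl_mul_mulVec, scalarGL_coe, Matrix.smul_mulVec, Matrix.one_mulVec, Matrix.mulVec_smul, smul_smul,
          Units.inv_mul, one_smul, hφ]
      le := hK
      real := fun A hA hAi => by
        refine ⟨φ A, ⟨?_, mem_GU_iff.mpr fun x y => ?_, mem_specialLinear_iff.mpr ?_⟩, fun x => hφ A x⟩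
        · refine mem_subfieldSubgroup.mpr (Subgroup.mem_sup_left ⟨A, ?_⟩)
          change _ = P⁻¹ * (P * Matrix.GeneralLinearGroup.map (F₀.subtype : F₀ →+* F) A * P⁻¹) * P
          group
        · obtain ⟨a, a', rfl⟩ := hTdec x
          obtain ⟨b, b', rfl⟩ := hTdec y
          simp only [Matrix.mulVec_add, Matrix.mulVec_smul, hφ, hs.add_left, hs.add_right, hs.smul_left,
            hs.smul_right, ← hpol, hAi]
        · have hd : (A : Matrix (Fin 4) (Fin 4) F₀).det = 1 := mem_specialLinear_iff.mp hA.2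
          change (((P * Matrix.GeneralLinearGroup.map (F₀.subtype : F₀ →+* F) A * P⁻¹ : GL (Fin 4) F)) :
            Matrix (Fin 4) (Fin 4) F).det = 1
          rw [Units.val_mul, Units.val_mul, Matrix.det_units_conj]
          exact (RingHom.map_det (F₀.subtype : F₀ →+* F) (A : Matrix (Fin 4) (Fin 4) F₀)).symm.trans
            (by rw [hd, map_one])
      trace := fun k hk => by
        have h : ∀ i j, (((P⁻¹ : GL (Fin 4) F) : Matrix (Fin 4) (Fin 4) F) * k *
            (P : Matrix (Fin 4) (Fin 4) F)) i j ∈ F₀ := by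
          intro i j
          obtain ⟨w, hw⟩ := hk (Pi.single j 1)
          rw [hT1] at hw
          have h2' : (((P⁻¹ : GL (Fin 4) F) : Matrix (Fin 4) (Fin 4) F) * k * (P : Matrix (Fin 4) (Fin 4) F)) *ᵥ
              Pi.single j 1 = fun m => (w m : F) := by
            rw [← Matrix.mulVec_mulVec, ← Matrix.mulVec_mulVec, hw]
            exact gl_inv_mulVec_cancel P _
          have h := congrFun h2' i
          rw [Matrix.mulVec_single_one, Matrix.col_apply] at h
          rw [h]
          exact (w i).2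
        rw [← Matrix.trace_units_conj' P k]
        exact hfix _ (sum_mem fun i _ => h i i)
      iso := hiso
      trans := fun v c hv hc => by
        obtain ⟨g, -, hg⟩ := hσ.exists_transvection (v := v) hv hc
        exact ⟨g, hg⟩ }
  by_cases hNT : NoTr σ (hermForm 4 F q) T Q K
  · exfalso
    refine hne (le_antisymm ?_ hK)
    obtain ⟨z, hz, hz0⟩ := OSimFour.exists_singular S.D
    obtain ⟨b, m, n, B⟩ := OSimFour.exists_basis S.D hz hz0
    have hc0 : Fintype.card F₀ = q := by rw [← Nat.card_eq_fintype_card, hq0]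
    have h1 := coset_dvd S hNT B
    have h3 := coset_le S hNT (by rw [hσ.card, hc0]) B
    rw [hc0] at h1 h3
    have hord : Nat.card (K ⧸ (subfieldSubgroup F₀ P ⊓ suGL 4 F q).subgroupOf K) ∣
        q ^ 6 * ((q ^ 2 - 1) * (q ^ 3 + 1) * (q ^ 4 - 1)) := by
      refine ((Subgroup.card_quotient_dvd_card _).trans (Subgroup.card_dvd_of_le hKS)).trans ?_
      rw [card_suGL hσ]
    have hodd : Odd q := (hσ.odd_iff).mpr h2
    have hN := arith hq5 hodd Nat.card_pos h1 h3 hord
    have := Subgroup.index_eq_one.mp hN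
    exact Subgroup.subgroupOf_eq_top.mp this
  · unfold NoTr at hNT
    push Not at hNT
    obtain ⟨a, ha, ha0, g, hg, c, hc, ht, hc0⟩ := hNT
    exact UOver.suGL_le hσ (by norm_num) fun v c' hv hc' t ht' =>
      all_ctr S ha ha0 (ctr_of_tr S ha ha0 hg hc0 hc ht) v hv c' hc' t ht'

end Cfsg.Agent.Classical.UOFour
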